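import Groth.Agent.AWN.Ring
import Mathlib.RingTheory.Localization.Away.Basic
import Mathlib.RingTheory.Polynomial.Quotient
import Mathlib.RingTheory.AdjoinRoot
import Mathlib.FieldTheory.Perfect

/-!
Criteria for seminormality and absolute weak normality, the absolute weak normalization of a ring, locality.
-/

set_option autoImplicit false

universe u

open CategoryTheory AlgebraicGeometry
open scoped TensorProduct

namespace Groth.Agent.AWN

variable {A B C : Type u} [CommRing A] [CommRing B] [CommRing C]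

lemma isUnivHomeo_of_surjective (ψ : A →+* C) (hψ : Function.Surjective ψ)
    (hs : Function.Surjective (PrimeSpectrum.comap ψ)) : FlatMor.IsUnivHomeo (Spec.map (CommRingCat.ofHom ψ)) :=
  (EtaLib.isUnivHomeo_Spec_iff ψ).mpr ⟨RingHom.IsIntegral.of_finite (RingHom.Finite.of_surjective ψ hψ), hs,
    fun _ _ _ _ e => (RingHom.cancel_right hψ).mp e⟩

lemma comap_surjective_quotient_nilradical (C : Type u) [CommRing C] :
    Function.Surjective (PrimeSpectrum.comap (Ideal.Quotient.mk (nilradical C))) := by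
  intro P
  refine ⟨⟨P.asIdeal.map (Ideal.Quotient.mk _), Ideal.map_isPrime_of_surjective Ideal.Quotient.mk_surjective ?_⟩,
    PrimeSpectrum.ext ?_⟩
  · rw [Ideal.mk_ker]; exact nilradical_le_prime _
  · show (P.asIdeal.map _).comap _ = _
    rw [Ideal.comap_map_of_surjective _ Ideal.Quotient.mk_surjective, ← RingHom.ker_eq_comap_bot, Ideal.mk_ker,
      sup_eq_left]
    exact nilradical_le_prime _

lemma isUnivHomeo_comp (φ : A →+* B) (ψ : B →+* C) (h1 : FlatMor.IsUnivHomeo (Spec.map (CommRingCat.ofHom φ)))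
    (h2 : FlatMor.IsUnivHomeo (Spec.map (CommRingCat.ofHom ψ))) :
    FlatMor.IsUnivHomeo (Spec.map (CommRingCat.ofHom (ψ.comp φ))) := by
  obtain ⟨i1, s1, u1⟩ := (EtaLib.isUnivHomeo_Spec_iff φ).mp h1
  obtain ⟨i2, s2, u2⟩ := (EtaLib.isUnivHomeo_Spec_iff ψ).mp h2
  exact (EtaLib.isUnivHomeo_Spec_iff _).mpr ⟨i1.trans _ _ i2,
    by rw [PrimeSpectrum.comap_comp]; exact s1.comp s2,
    fun K _ g g' e => u2 K g g' (u1 K _ _ (by rw [RingHom.comp_assoc, RingHom.comp_assoc]; exact e))⟩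

lemma isUnivHomeo_red (ψ : A →+* C) (h : FlatMor.IsUnivHomeo (Spec.map (CommRingCat.ofHom ψ))) :
    FlatMor.IsUnivHomeo (Spec.map (CommRingCat.ofHom ((Ideal.Quotient.mk (nilradical C)).comp ψ))) :=
  isUnivHomeo_comp ψ _ h
    (isUnivHomeo_of_surjective _ Ideal.Quotient.mk_surjective (comap_surjective_quotient_nilradical C))

lemma isReduced_quotient_nilradical (C : Type u) [CommRing C] : _root_.IsReduced (C ⧸ nilradical C) :=
  (Ideal.isRadical_iff_quotient_reduced _).mp (Ideal.radical_isRadical _)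

section Adjoin

variable (f₁ f₂ : Polynomial A)

/-- `A[T]/(f₁, f₂)`. -/
abbrev Adj : Type u := Polynomial A ⧸ Ideal.span ({f₁, f₂} : Set (Polynomial A))

/-- The structure map. -/
noncomputable abbrev adjOf : A →+* Adj f₁ f₂ := (Ideal.Quotient.mk _).comp Polynomial.C

/-- The root. -/
noncomputable abbrev adjRoot : Adj f₁ f₂ := Ideal.Quotient.mk _ Polynomial.X

variable {f₁ f₂}

lemma adj_hom_ext {K : Type u} [Field K] {g g' : Adj f₁ f₂ →+* K}
    (e : g.comp (adjOf f₁ f₂) = g'.comp (adjOf f₁ f₂)) (h : g (adjRoot f₁ f₂) = g' (adjRoot f₁ f₂)) : g = g' :=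
  Ideal.Quotient.ringHom_ext (Polynomial.ringHom_ext (fun a => RingHom.congr_fun e a) h)

lemma adj_root_eval {K : Type u} [Field K] (g : Adj f₁ f₂ →+* K) (f : Polynomial A)
    (hf : f ∈ Ideal.span ({f₁, f₂} : Set (Polynomial A))) :
    f.eval₂ (g.comp (adjOf f₁ f₂)) (g (adjRoot f₁ f₂)) = 0 := by
  rw [← Polynomial.hom_eval₂, ← Polynomial.hom_eval₂, Polynomial.eval₂_C_X,
    Ideal.Quotient.eq_zero_iff_mem.mpr hf, map_zero]

lemma isUnivHomeo_adjOf (hm : f₁.Monic)
    (huniq : ∀ (K : Type u) [Field K] (g : A →+* K) (t t' : K), f₁.eval₂ g t = 0 → f₂.eval₂ g t = 0 →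
      f₁.eval₂ g t' = 0 → f₂.eval₂ g t' = 0 → t = t')
    (hex : ∀ (K : Type u) [Field K] [IsAlgClosed K] (g : A →+* K), ∃ t, f₁.eval₂ g t = 0 ∧ f₂.eval₂ g t = 0) :
    FlatMor.IsUnivHomeo (Spec.map (CommRingCat.ofHom (adjOf f₁ f₂))) := by
  refine (EtaLib.isUnivHomeo_Spec_iff _).mpr ⟨?_, ?_, ?_⟩
  · intro z
    letI := (adjOf f₁ f₂).toAlgebra
    have hr : IsIntegral A (adjRoot f₁ f₂) := ⟨f₁, hm, by
      show f₁.eval₂ (adjOf f₁ f₂) (adjRoot f₁ f₂) = 0
      rw [← Polynomial.hom_eval₂, Polynomial.eval₂_C_X]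
      exact Ideal.Quotient.eq_zero_iff_mem.mpr (Ideal.subset_span (Set.mem_insert _ _))⟩
    obtain ⟨q, rfl⟩ := Ideal.Quotient.mk_surjective z
    induction q using Polynomial.induction_on' with
    | add p q hp hq => rw [map_add]; exact IsIntegral.add hp hq
    | monomial n a =>
      rw [← Polynomial.C_mul_X_pow_eq_monomial, map_mul, map_pow]
      exact IsIntegral.mul (isIntegral_algebraMap (R := A) (x := a)) (hr.pow n)
  · intro p
    obtain ⟨t, ht1, ht2⟩ := hex (AlgebraicClosure p.asIdeal.ResidueField)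
      ((algebraMap p.asIdeal.ResidueField _).comp (algebraMap A p.asIdeal.ResidueField))
    let g : Adj f₁ f₂ →+* AlgebraicClosure p.asIdeal.ResidueField :=
      Ideal.Quotient.lift _ (Polynomial.eval₂RingHom
        ((algebraMap p.asIdeal.ResidueField _).comp (algebraMap A p.asIdeal.ResidueField)) t) fun f hf => by
        refine (Ideal.span_le (I := RingHom.ker _)).mpr ?_ hf
        rintro _ (rfl | rfl)
        · exact ht1
        · exact ht2
    refine ⟨⟨RingHom.ker g, RingHom.ker_isPrime _⟩, PrimeSpectrum.ext ?_⟩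
    show (RingHom.ker g).comap (adjOf f₁ f₂) = _
    rw [RingHom.comap_ker, show g.comp (adjOf f₁ f₂) =
      (algebraMap p.asIdeal.ResidueField _).comp (algebraMap A p.asIdeal.ResidueField) from
        RingHom.ext fun a => Polynomial.eval₂_C _ _, ← RingHom.comap_ker,
      (RingHom.injective_iff_ker_eq_bot _).mp
        (algebraMap p.asIdeal.ResidueField (AlgebraicClosure p.asIdeal.ResidueField)).injective]
    exact p.asIdeal.ker_algebraMap_residueField
  · intro K _ g g' e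
    refine adj_hom_ext e (huniq K (g.comp (adjOf f₁ f₂)) _ _
      (adj_root_eval g _ (Ideal.subset_span (Set.mem_insert _ _)))
      (adj_root_eval g _ (Ideal.subset_span (Set.mem_insert_of_mem _ rfl))) ?_ ?_)
    · rw [e]; exact adj_root_eval g' _ (Ideal.subset_span (Set.mem_insert _ _))
    · rw [e]; exact adj_root_eval g' _ (Ideal.subset_span (Set.mem_insert_of_mem _ rfl))

lemma surjective_residue_adjOf
    (huniq : ∀ (K : Type u) [Field K] (g : A →+* K) (t t' : K), f₁.eval₂ g t = 0 → f₂.eval₂ g t = 0 →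
      f₁.eval₂ g t' = 0 → f₂.eval₂ g t' = 0 → t = t')
    (hex : ∀ (K : Type u) [Field K] (g : A →+* K), ∃ t, f₁.eval₂ g t = 0 ∧ f₂.eval₂ g t = 0)
    (Q : PrimeSpectrum (Adj f₁ f₂)) : Function.Surjective
      (Ideal.ResidueField.map (PrimeSpectrum.comap (adjOf f₁ f₂) Q).asIdeal Q.asIdeal (adjOf f₁ f₂) rfl) := by
  obtain ⟨t, ht1, ht2⟩ := hex _ (algebraMap A (PrimeSpectrum.comap (adjOf f₁ f₂) Q).asIdeal.ResidueField)
  let r := Ideal.ResidueField.map (PrimeSpectrum.comap (adjOf f₁ f₂) Q).asIdeal Q.asIdeal (adjOf f₁ f₂) rfl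
  let g : Adj f₁ f₂ →+* Q.asIdeal.ResidueField := algebraMap _ _
  have hr : r.comp (algebraMap A _) = g.comp (adjOf f₁ f₂) :=
    RingHom.ext fun a => Ideal.ResidueField.map_algebraMap _ _ _ rfl a
  have ht : g (adjRoot f₁ f₂) = r t := huniq _ (g.comp (adjOf f₁ f₂)) _ _
    (adj_root_eval g _ (Ideal.subset_span (Set.mem_insert _ _)))
    (adj_root_eval g _ (Ideal.subset_span (Set.mem_insert_of_mem _ rfl)))
    (by rw [← hr, ← Polynomial.hom_eval₂, ht1, map_zero])
    (by rw [← hr, ← Polynomial.hom_eval₂, ht2, map_zero])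
  have hall : ∀ z, g z ∈ r.range := fun z => by
    obtain ⟨q, rfl⟩ := Ideal.Quotient.mk_surjective z
    induction q using Polynomial.induction_on' with
    | add p q hp hq => rw [map_add, map_add]; exact Subring.add_mem _ hp hq
    | monomial n a =>
      rw [← Polynomial.C_mul_X_pow_eq_monomial, map_mul, map_pow, map_mul, map_pow]
      exact Subring.mul_mem _ ⟨algebraMap A _ a, RingHom.congr_fun hr a⟩ (Subring.pow_mem r.range ⟨t, ht.symm⟩ n)
  intro x
  obtain ⟨u, w, -, rfl⟩ := IsFractionRing.div_surjective (A := (Adj f₁ f₂) ⧸ Q.asIdeal) x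
  obtain ⟨u, rfl⟩ := Ideal.Quotient.mk_surjective u
  obtain ⟨w, rfl⟩ := Ideal.Quotient.mk_surjective w
  obtain ⟨u', hu⟩ := hall u
  obtain ⟨w', hw⟩ := hall w
  exact ⟨u' / w', by rw [map_div₀]; exact congr_arg₂ (· / ·) hu hw⟩

end Adjoin

lemma exists_root_seminormal {x y : A} (hxy : x ^ 3 = y ^ 2) (K : Type u) [Field K] (g : A →+* K) :
    ∃ t : K, t ^ 2 = g x ∧ t ^ 3 = g y := by
  have h : g x ^ 3 = g y ^ 2 := by rw [← map_pow, ← map_pow, hxy]
  by_cases hx : g x = 0
  · refine ⟨0, by simp [hx], ?_⟩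
    rw [hx, zero_pow three_ne_zero] at h
    rw [eq_zero_of_pow_eq_zero h.symm, zero_pow three_ne_zero]
  · refine ⟨g y / g x, ?_, ?_⟩
    · rw [div_pow, ← h, div_eq_iff (pow_ne_zero 2 hx)]; ring
    · rw [div_pow, pow_succ (g y), ← h, div_eq_iff (pow_ne_zero 3 hx)]; ring

lemma isSeminormalRing_of_retract [IsReduced A]
    (H : ∀ (C : Type u) [CommRing C] (ψ : A →+* C), FlatMor.IsUnivHomeo (Spec.map (CommRingCat.ofHom ψ)) →
      HTop.ResidueFieldsIso (Spec.map (CommRingCat.ofHom ψ)) → ∃ χ : C →+* A, χ.comp ψ = RingHom.id A) :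
    HTop.IsSeminormalRing A := by
  intro x y hxy
  let f₁ : Polynomial A := Polynomial.X ^ 2 - Polynomial.C x
  let f₂ : Polynomial A := Polynomial.X ^ 3 - Polynomial.C y
  have heval : ∀ (K : Type u) [Field K] (g : A →+* K) (t : K),
      (f₁.eval₂ g t = 0 ↔ t ^ 2 = g x) ∧ (f₂.eval₂ g t = 0 ↔ t ^ 3 = g y) :=
    fun K _ g t => ⟨by simp [f₁, sub_eq_zero], by simp [f₂, sub_eq_zero]⟩
  have huniq : ∀ (K : Type u) [Field K] (g : A →+* K) (t t' : K), f₁.eval₂ g t = 0 → f₂.eval₂ g t = 0 →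
      f₁.eval₂ g t' = 0 → f₂.eval₂ g t' = 0 → t = t' := fun K _ g t t' a b c d =>
    eq_of_sq_cube_field (((heval K g t).1.mp a).trans ((heval K g t').1.mp c).symm)
      (((heval K g t).2.mp b).trans ((heval K g t').2.mp d).symm)
  have hex : ∀ (K : Type u) [Field K] (g : A →+* K), ∃ t, f₁.eval₂ g t = 0 ∧ f₂.eval₂ g t = 0 := fun K _ g =>
    let ⟨t, h1, h2⟩ := exists_root_seminormal hxy K g
    ⟨t, (heval K g t).1.mpr h1, (heval K g t).2.mpr h2⟩
  obtain ⟨χ, hχ⟩ := H _ (adjOf f₁ f₂)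
    (isUnivHomeo_adjOf (Polynomial.monic_X_pow_sub_C x two_ne_zero) huniq fun K _ _ g => hex K g)
    ((EtaLib.residueFieldsIso_Spec_iff _).mpr fun Q => ⟨RingHom.injective _, surjective_residue_adjOf huniq hex Q⟩)
  have h1 : χ (adjRoot f₁ f₂) ^ 2 = x := by
    have : adjRoot f₁ f₂ ^ 2 = adjOf f₁ f₂ x := by
      rw [← map_pow]
      exact Ideal.Quotient.mk_eq_mk_iff_sub_mem _ _ |>.mpr (Ideal.subset_span (Set.mem_insert _ _))
    rw [← map_pow, this, ← RingHom.comp_apply, hχ, RingHom.id_apply]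
  have h2 : χ (adjRoot f₁ f₂) ^ 3 = y := by
    have : adjRoot f₁ f₂ ^ 3 = adjOf f₁ f₂ y := by
      rw [← map_pow]
      exact Ideal.Quotient.mk_eq_mk_iff_sub_mem _ _ |>.mpr (Ideal.subset_span (Set.mem_insert_of_mem _ rfl))
    rw [← map_pow, this, ← RingHom.comp_apply, hχ, RingHom.id_apply]
  exact ⟨_, ⟨h1.symm, h2.symm⟩, fun b hb => eq_of_sq_cube (hb.1.symm.trans h1.symm) (hb.2.symm.trans h2.symm)⟩

lemma isAWNRing_of_retract [IsReduced A]
    (H : ∀ (C : Type u) [CommRing C] (ψ : A →+* C), FlatMor.IsUnivHomeo (Spec.map (CommRingCat.ofHom ψ)) →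
      ∃ χ : C →+* A, χ.comp ψ = RingHom.id A) :
    HTop.IsAWNRing A := by
  refine ⟨isSeminormalRing_of_retract fun C _ ψ h _ => H C ψ h, fun p hp x y hxy => ?_⟩
  let f₁ : Polynomial A := Polynomial.X ^ p - Polynomial.C x
  let f₂ : Polynomial A := Polynomial.C (p : A) * Polynomial.X - Polynomial.C y
  have heval : ∀ (K : Type u) [Field K] (g : A →+* K) (t : K),
      (f₁.eval₂ g t = 0 ↔ t ^ p = g x) ∧ (f₂.eval₂ g t = 0 ↔ (p : K) * t = g y) :=
    fun K _ g t => ⟨by simp [f₁, sub_eq_zero], by simp [f₂, sub_eq_zero]⟩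
  have huniq : ∀ (K : Type u) [Field K] (g : A →+* K) (t t' : K), f₁.eval₂ g t = 0 → f₂.eval₂ g t = 0 →
      f₁.eval₂ g t' = 0 → f₂.eval₂ g t' = 0 → t = t' := fun K _ g t t' a b c d =>
    eq_of_pow_prime_field hp (((heval K g t).1.mp a).trans ((heval K g t').1.mp c).symm)
      (((heval K g t).2.mp b).trans ((heval K g t').2.mp d).symm)
  have hex : ∀ (K : Type u) [Field K] [IsAlgClosed K] (g : A →+* K),
      ∃ t, f₁.eval₂ g t = 0 ∧ f₂.eval₂ g t = 0 := fun K _ _ g => by
    have h : (p : K) ^ p * g x = g y ^ p := by rw [← map_natCast g, ← map_pow, ← map_mul, hxy, map_pow]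
    by_cases h0 : (p : K) = 0
    · obtain ⟨t, ht⟩ := IsAlgClosed.exists_pow_nat_eq (g x) hp.pos
      refine ⟨t, (heval K g t).1.mpr ht, (heval K g t).2.mpr ?_⟩
      rw [h0, zero_pow hp.ne_zero, zero_mul] at h
      rw [h0, zero_mul, eq_zero_of_pow_eq_zero h.symm]
    · refine ⟨g y / p, (heval K g _).1.mpr ?_, (heval K g _).2.mpr (mul_div_cancel₀ _ h0)⟩
      rw [div_pow, ← h, mul_div_cancel_left₀ _ (pow_ne_zero p h0)]
  obtain ⟨χ, hχ⟩ := H _ (adjOf f₁ f₂) (isUnivHomeo_adjOf (Polynomial.monic_X_pow_sub_C x hp.ne_zero) huniq hex)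
  have h1 : χ (adjRoot f₁ f₂) ^ p = x := by
    have : adjRoot f₁ f₂ ^ p = adjOf f₁ f₂ x := by
      rw [← map_pow]
      exact Ideal.Quotient.mk_eq_mk_iff_sub_mem _ _ |>.mpr (Ideal.subset_span (Set.mem_insert _ _))
    rw [← map_pow, this, ← RingHom.comp_apply, hχ, RingHom.id_apply]
  have h2 : (p : A) * χ (adjRoot f₁ f₂) = y := by
    have : (p : Adj f₁ f₂) * adjRoot f₁ f₂ = adjOf f₁ f₂ y := by
      rw [← map_natCast (adjOf f₁ f₂), RingHom.comp_apply, RingHom.comp_apply, ← map_mul]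
      exact Ideal.Quotient.mk_eq_mk_iff_sub_mem _ _ |>.mpr (Ideal.subset_span (Set.mem_insert_of_mem _ rfl))
    rw [← map_natCast χ, ← map_mul, this, ← RingHom.comp_apply, hχ, RingHom.id_apply]
  exact ⟨_, ⟨h1.symm, h2.symm⟩, fun b hb => eq_of_pow_prime hp (hb.1.symm.trans h1.symm) (hb.2.symm.trans h2.symm)⟩

/-! ### The absolute weak normalization of a ring -/

lemma isReduced_of_isRingAWN {φ : A →+* B} (hφ : HTop.IsRingAWN φ) : _root_.IsReduced B := by
  obtain ⟨χ, hχ, -⟩ := hφ.2 _ _ (isUnivHomeo_red φ hφ.1)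
  obtain ⟨χ₀, -, hu⟩ := hφ.2 B φ hφ.1
  have h : χ.comp (Ideal.Quotient.mk (nilradical B)) = RingHom.id B :=
    (hu _ (show _ = _ from (RingHom.comp_assoc _ _ _).trans hχ)).trans (hu _ (RingHom.id_comp φ)).symm
  haveI := isReduced_quotient_nilradical B
  exact isReduced_of_injective (Ideal.Quotient.mk (nilradical B))
    (Function.LeftInverse.injective (g := χ) fun b => RingHom.congr_fun h b)

lemma isAWNRing_of_isRingAWN {φ : A →+* B} (hφ : HTop.IsRingAWN φ) : HTop.IsAWNRing B := by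
  haveI := isReduced_of_isRingAWN hφ
  refine isAWNRing_of_retract fun C _ ψ hψ => ?_
  obtain ⟨χ, hχ, -⟩ := hφ.2 C (ψ.comp φ) (isUnivHomeo_comp φ ψ hφ.1 hψ)
  obtain ⟨χ₀, -, hu⟩ := hφ.2 B φ hφ.1
  exact ⟨χ, (hu _ (show _ = _ from (RingHom.comp_assoc _ _ _).trans hχ)).trans (hu _ (RingHom.id_comp φ)).symm⟩

/-- Uniqueness of maps into a reduced target. -/
lemma hom_ext_of_univHomeo [IsReduced B] (ψ : A →+* C) (h : FlatMor.IsUnivHomeo (Spec.map (CommRingCat.ofHom ψ)))
    {χ χ' : C →+* B} (e : χ.comp ψ = χ'.comp ψ) : χ = χ' := by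
  refine RingHom.ext fun c => eq_of_residue fun P => ?_
  have := ((EtaLib.isUnivHomeo_Spec_iff ψ).mp h).2.2 _ ((algebraMap B P.asIdeal.ResidueField).comp χ)
    ((algebraMap B P.asIdeal.ResidueField).comp χ') (by rw [RingHom.comp_assoc, RingHom.comp_assoc, e])
  exact RingHom.congr_fun this c

lemma isUnivHomeo_baseChange (φ : A →+* B) (ψ : A →+* C) (h : FlatMor.IsUnivHomeo (Spec.map (CommRingCat.ofHom ψ))) :
    letI := φ.toAlgebra
    letI := ψ.toAlgebra
    FlatMor.IsUnivHomeo (Spec.map (CommRingCat.ofHom (Algebra.TensorProduct.includeLeftRingHom : B →+* B ⊗[A] C))) := by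
  letI := φ.toAlgebra
  letI := ψ.toAlgebra
  obtain ⟨hi, hs, hu⟩ := (EtaLib.isUnivHomeo_Spec_iff ψ).mp h
  refine (EtaLib.isUnivHomeo_Spec_iff _).mpr ⟨?_, fun p => ?_, fun K _ g g' e => ?_⟩
  · haveI : Algebra.IsIntegral A C := ⟨hi⟩
    exact fun x => Algebra.IsIntegral.isIntegral (R := B) x
  · let g := (algebraMap p.asIdeal.ResidueField (AlgebraicClosure p.asIdeal.ResidueField)).comp (algebraMap B _)
    obtain ⟨gc, hgc⟩ := EtaLib.exists_field_extend ψ hi hs (g.comp φ)
    letI := (g.comp φ).toAlgebra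
    let gB : B →ₐ[A] AlgebraicClosure p.asIdeal.ResidueField := { g with commutes' := fun _ => rfl }
    let gC : C →ₐ[A] AlgebraicClosure p.asIdeal.ResidueField := { gc with commutes' := RingHom.congr_fun hgc }
    refine ⟨⟨RingHom.ker (Algebra.TensorProduct.productMap gB gC).toRingHom, RingHom.ker_isPrime _⟩,
      PrimeSpectrum.ext ?_⟩
    show (RingHom.ker _).comap _ = p.asIdeal
    rw [RingHom.comap_ker, show (Algebra.TensorProduct.productMap gB gC).toRingHom.comp
        Algebra.TensorProduct.includeLeftRingHom = g from RingHom.ext fun b => by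
          exact (Algebra.TensorProduct.productMap_apply_tmul gB gC b 1).trans (by rw [map_one, mul_one]; rfl),
      ← RingHom.comap_ker, (RingHom.injective_iff_ker_eq_bot _).mp
        (algebraMap p.asIdeal.ResidueField (AlgebraicClosure p.asIdeal.ResidueField)).injective]
    exact p.asIdeal.ker_algebraMap_residueField
  · have h1 := hu K (g.comp (Algebra.TensorProduct.includeRight : C →ₐ[A] B ⊗[A] C).toRingHom)
      (g'.comp (Algebra.TensorProduct.includeRight : C →ₐ[A] B ⊗[A] C).toRingHom)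
      (RingHom.ext fun a => by
        have h2 := RingHom.congr_fun e (φ a)
        have h3 : Algebra.TensorProduct.includeLeftRingHom (φ a) =
            (Algebra.TensorProduct.includeRight : C →ₐ[A] B ⊗[A] C) (ψ a) :=
          ((Algebra.TensorProduct.includeLeft : B →ₐ[A] B ⊗[A] C).commutes a).trans
            ((Algebra.TensorProduct.includeRight : C →ₐ[A] B ⊗[A] C).commutes a).symm
        simp only [RingHom.comp_apply, h3] at h2
        exact h2)
    refine RingHom.ext fun x => ?_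
    induction x using TensorProduct.induction_on with
    | zero => simp
    | add x y hx hy => rw [map_add, map_add, hx, hy]
    | tmul b c =>
      rw [show b ⊗ₜ[A] c = Algebra.TensorProduct.includeLeftRingHom b *
        (Algebra.TensorProduct.includeRight : C →ₐ[A] B ⊗[A] C) c by simp, map_mul, map_mul]
      exact congr_arg₂ (· * ·) (RingHom.congr_fun e b) (RingHom.congr_fun h1 c)

/-- A universal homeomorphism to an absolutely weakly normal ring is the absolute weak normalization. -/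
theorem isRingAWN_of (φ : A →+* B) (hφ : FlatMor.IsUnivHomeo (Spec.map (CommRingCat.ofHom φ)))
    (hB : HTop.IsAWNRing B) : HTop.IsRingAWN φ := by
  haveI := isReduced_of_seminormal hB.1
  refine ⟨hφ, fun C _ ψ hψ => ?_⟩
  letI := φ.toAlgebra
  letI := ψ.toAlgebra
  haveI := isReduced_quotient_nilradical (B ⊗[A] C)
  let j : B →+* (B ⊗[A] C) ⧸ nilradical (B ⊗[A] C) :=
    (Ideal.Quotient.mk (nilradical (B ⊗[A] C))).comp Algebra.TensorProduct.includeLeftRingHom
  have hj := bijective_of_awn hB j (isUnivHomeo_red _ (isUnivHomeo_baseChange φ ψ hψ))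
  let e := RingEquiv.ofBijective j hj
  let χ : C →+* B := e.symm.toRingHom.comp
    ((Ideal.Quotient.mk _).comp (Algebra.TensorProduct.includeRight : C →ₐ[A] B ⊗[A] C).toRingHom)
  have hχ : χ.comp ψ = φ := RingHom.ext fun a => e.injective ((e.apply_symm_apply _).trans
    (congrArg (Ideal.Quotient.mk _) (((Algebra.TensorProduct.includeRight : C →ₐ[A] B ⊗[A] C).commutes a).trans
      ((Algebra.TensorProduct.includeLeft : B →ₐ[A] B ⊗[A] C).commutes a).symm)))
  exact ⟨χ, hχ, fun χ' h' => hom_ext_of_univHomeo ψ hψ (h'.trans hχ.symm)⟩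

end Groth.Agent.AWN
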