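import Groth.Agent.AWN.Scheme
import Groth.Agent.S7422
import Mathlib.AlgebraicGeometry.Sites.SmallAffineZariski

/-!
The absolute weak normalization of a scheme.
-/

set_option autoImplicit false
set_option backward.isDefEq.respectTransparency.types false

universe u

open CategoryTheory CategoryTheory.Limits AlgebraicGeometry Scheme.AffineZariskiSite
open scoped TensorProduct

namespace Groth.Agent.AWN

section Ring

variable {A A' B B' : Type u} [CommRing A] [CommRing A'] [CommRing B] [CommRing B']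

theorem existsUnique_map (h : A →+* A') (φ : A →+* B) (hφ : FlatMor.IsUnivHomeo (Spec.map (CommRingCat.ofHom φ)))
    (φ' : A' →+* B') (hφ' : HTop.IsRingAWN φ') : ∃! m : B →+* B', m.comp φ = φ'.comp h := by
  letI := h.toAlgebra
  letI := φ.toAlgebra
  haveI := isReduced_of_isRingAWN hφ'
  obtain ⟨χ, hχ, -⟩ := hφ'.2 (A' ⊗[A] B) _ (isUnivHomeo_baseChange h φ hφ)
  let inc : B →+* A' ⊗[A] B := (Algebra.TensorProduct.includeRight : B →ₐ[A] A' ⊗[A] B).toRingHom
  have hm : (χ.comp inc).comp φ = φ'.comp h := RingHom.ext fun a => by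
    have h3 : inc (φ a) = Algebra.TensorProduct.includeLeftRingHom (h a) :=
      ((Algebra.TensorProduct.includeRight : B →ₐ[A] A' ⊗[A] B).commutes a).trans
        ((Algebra.TensorProduct.includeLeft : A' →ₐ[A] A' ⊗[A] B).commutes a).symm
    simp only [RingHom.comp_apply, h3]
    exact RingHom.congr_fun hχ (h a)
  exact ⟨χ.comp inc, hm, fun m hm' => hom_ext_of_univHomeo φ hφ (hm'.trans hm.symm)⟩

theorem isLocalization_of_isRingAWN [Algebra A A'] (f : A) [IsLocalization.Away f A'] (φ : A →+* B)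
    (hφ : HTop.IsRingAWN φ) (φ' : A' →+* B') (hφ' : HTop.IsRingAWN φ') (m : B →+* B')
    (hm : m.comp φ = φ'.comp (algebraMap A A')) :
    letI := m.toAlgebra
    IsLocalization.Away (φ f) B' := by
  letI := m.toAlgebra
  let L := Localization.Away (φ f)
  let ψ : A' →+* L := IsLocalization.Away.lift f (g := (algebraMap B L).comp φ)
    (IsLocalization.Away.algebraMap_isUnit (φ f))
  have hψ : ψ.comp (algebraMap A A') = (algebraMap B L).comp φ := IsLocalization.Away.lift_comp f _
  have hψa : ∀ a, ψ (algebraMap A A' a) = algebraMap B L (φ a) := RingHom.congr_fun hψ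
  obtain ⟨hi, hs, hu⟩ := (EtaLib.isUnivHomeo_Spec_iff φ).mp hφ.1
  have hψUH : FlatMor.IsUnivHomeo (Spec.map (CommRingCat.ofHom ψ)) := by
    refine (EtaLib.isUnivHomeo_Spec_iff ψ).mpr ⟨fun z => ?_, fun p => ?_, fun K _ g g' e => ?_⟩
    · letI := ψ.toAlgebra
      obtain ⟨n, b, hb⟩ := IsLocalization.Away.surj (φ f) z
      obtain ⟨F, hF, hF0⟩ := hi b
      have hb' : IsIntegral A' (algebraMap B L b) := ⟨F.map (algebraMap A A'), hF.map _, by
        rw [Polynomial.eval₂_map, show (algebraMap A' L).comp (algebraMap A A') = (algebraMap B L).comp φ from hψ,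
          ← Polynomial.hom_eval₂, hF0, map_zero]⟩
      obtain ⟨v, hv⟩ := ((IsLocalization.Away.algebraMap_isUnit (S := A') f).pow n).exists_right_inv
      have hv' := congrArg ψ hv
      rw [map_mul, map_pow, hψa, map_one] at hv'
      have hz : z = algebraMap B L b * ψ v := by rw [← hb, mul_assoc, hv', mul_one]
      exact hz ▸ IsIntegral.mul hb' (isIntegral_algebraMap (R := A') (x := v))
    · obtain ⟨Q, hQ⟩ := hs (PrimeSpectrum.comap (algebraMap A A') p)
      have hQf : φ f ∉ Q.asIdeal := fun e => by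
        have h1 : f ∈ (PrimeSpectrum.comap φ Q).asIdeal := e
        rw [hQ] at h1
        exact p.isPrime.ne_top (p.asIdeal.eq_top_of_isUnit_mem h1 (IsLocalization.Away.algebraMap_isUnit f))
      obtain ⟨R, hR⟩ : Q ∈ Set.range (PrimeSpectrum.comap (algebraMap B L)) := by
        rw [PrimeSpectrum.localization_away_comap_range L (φ f)]; exact hQf
      refine ⟨R, PrimeSpectrum.localization_comap_injective A' (Submonoid.powers f) ?_⟩
      rw [← PrimeSpectrum.comap_comp_apply, hψ, PrimeSpectrum.comap_comp_apply, hR, hQ]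
    · refine IsLocalization.ringHom_ext (Submonoid.powers (φ f)) (hu K _ _ ?_)
      rw [RingHom.comp_assoc, RingHom.comp_assoc, ← hψ, ← RingHom.comp_assoc, ← RingHom.comp_assoc, e]
  have hL := isRingAWN_of ψ hψUH (isAWNRing_away (isAWNRing_of_isRingAWN hφ) (φ f))
  obtain ⟨a, ha, -⟩ := hφ'.2 L ψ hψUH
  obtain ⟨b, hb, -⟩ := hL.2 B' φ' hφ'.1
  haveI := isReduced_of_isRingAWN hφ'
  haveI := isReduced_of_isRingAWN hL
  have h1 : a.comp b = RingHom.id B' :=
    hom_ext_of_univHomeo φ' hφ'.1 (by rw [RingHom.comp_assoc, hb, ha, RingHom.id_comp])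
  have h2 : b.comp a = RingHom.id L :=
    hom_ext_of_univHomeo ψ hψUH (by rw [RingHom.comp_assoc, ha, hb, RingHom.id_comp])
  have hc : a.comp (algebraMap B L) = m := hom_ext_of_univHomeo φ hφ.1 (by
    rw [RingHom.comp_assoc, ← hψ, ← RingHom.comp_assoc, ha, hm])
  exact IsLocalization.isLocalization_of_algEquiv (Submonoid.powers (φ f))
    (AlgEquiv.ofRingEquiv (f := RingEquiv.ofRingHom a b h1 h2) (RingHom.congr_fun hc))

end Ring

variable (X : Scheme.{u})

/-- The chosen absolute weak normalization of the sections over an affine open. -/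
noncomputable def WObj (U : X.AffineZariskiSite) : Type u := (S7422.result Γ(X, U.1)).choose

noncomputable instance (U : X.AffineZariskiSite) : CommRing (WObj X U) :=
  (S7422.result Γ(X, U.1)).choose_spec.choose

/-- The chosen map. -/
noncomputable def wMap (U : X.AffineZariskiSite) : Γ(X, U.1) →+* WObj X U :=
  (S7422.result Γ(X, U.1)).choose_spec.choose_spec.choose

lemma wMap_spec (U : X.AffineZariskiSite) : HTop.IsRingAWN (wMap X U) :=
  (S7422.result Γ(X, U.1)).choose_spec.choose_spec.choose_spec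

/-- Transition maps. -/
noncomputable def wRes {U V : X.AffineZariskiSite} (i : U ≤ V) : WObj X V →+* WObj X U :=
  (existsUnique_map (X.presheaf.map (homOfLE (toOpens_mono i)).op).hom (wMap X V) (wMap_spec X V).1 (wMap X U)
    (wMap_spec X U)).choose

lemma wRes_comp {U V : X.AffineZariskiSite} (i : U ≤ V) :
    (wRes X i).comp (wMap X V) = (wMap X U).comp (X.presheaf.map (homOfLE (toOpens_mono i)).op).hom :=
  (existsUnique_map (X.presheaf.map (homOfLE (toOpens_mono i)).op).hom (wMap X V) (wMap_spec X V).1 (wMap X U)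
    (wMap_spec X U)).choose_spec.1

lemma wRes_eq {U V : X.AffineZariskiSite} (i : U ≤ V) (m : WObj X V →+* WObj X U)
    (h : m.comp (wMap X V) = (wMap X U).comp (X.presheaf.map (homOfLE (toOpens_mono i)).op).hom) :
    wRes X i = m :=
  haveI := isReduced_of_isRingAWN (wMap_spec X U)
  hom_ext_of_univHomeo (wMap X V) (wMap_spec X V).1 ((wRes_comp X i).trans h.symm)

lemma wRes_refl (U : X.AffineZariskiSite) : wRes X (le_refl U) = RingHom.id _ := by
  refine wRes_eq X (le_refl U) _ ?_
  rw [RingHom.id_comp]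
  exact (congrArg (wMap X U).comp (congrArg CommRingCat.Hom.hom (X.presheaf.map_id (Opposite.op U.1)))).symm

lemma wRes_trans {U V W : X.AffineZariskiSite} (i : U ≤ V) (j : V ≤ W) :
    wRes X (i.trans j) = (wRes X i).comp (wRes X j) := by
  refine wRes_eq X _ _ ?_
  rw [RingHom.comp_assoc, wRes_comp, ← RingHom.comp_assoc, wRes_comp, RingHom.comp_assoc]
  congr 1
  rw [← CommRingCat.hom_comp, ← Functor.map_comp]
  rfl

/-- The presheaf of absolute weak normalizations. -/
noncomputable def WF : X.AffineZariskiSiteᵒᵖ ⥤ CommRingCat.{u} where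
  obj U := CommRingCat.of (WObj X U.unop)
  map i := CommRingCat.ofHom (wRes X i.unop.le)
  map_id U := CommRingCat.hom_ext (wRes_refl X U.unop)
  map_comp i j := CommRingCat.hom_ext (wRes_trans X j.unop.le i.unop.le)

/-- The structure map. -/
noncomputable def wα : (toOpensFunctor X).op ⋙ X.presheaf ⟶ WF X where
  app U := CommRingCat.ofHom (wMap X U.unop)
  naturality U V i := CommRingCat.hom_ext (wRes_comp X i.unop.le).symm

lemma wα_coequifibered : (wα X).Coequifibered := by
  refine coequifibered_iff_forall_isLocalizationAway.mpr fun U f => ?_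
  letI : Algebra Γ(X, U.1) Γ(X, (U.basicOpen f).1) :=
    (X.presheaf.map (homOfLE (X.basicOpen_le f)).op).hom.toAlgebra
  haveI : IsLocalization.Away f Γ(X, (U.basicOpen f).1) := U.2.isLocalization_basicOpen f
  exact isLocalization_of_isRingAWN f (wMap X U) (wMap_spec X U) (wMap X (U.basicOpen f))
    (wMap_spec X (U.basicOpen f)) _ (wRes_comp X (U.basicOpen_le f))

/-- Gluing data. -/
noncomputable def wGlue := relativeGluingData (wα_coequifibered X)

instance : ((wGlue X).functor ⋙ Scheme.forget).IsLocallyDirected :=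
  Scheme.Cover.RelativeGluingData.instIsLocallyDirectedI₀CompFunctorForgetOfIsThin ..

/-- The absolute weak normalization. -/
noncomputable def awn : Scheme.{u} := (wGlue X).glued

/-- Its map to `X`. -/
noncomputable def awnMap : awn X ⟶ X := (wGlue X).toBase

/-- The standard cover. -/
noncomputable def awnCover : (awn X).OpenCover := (wGlue X).cover

lemma awnCover_comp (U : X.AffineZariskiSite) :
    (awnCover X).f U ≫ awnMap X = Spec.map (CommRingCat.ofHom (wMap X U)) ≫ U.2.fromSpec := by
  refine (colimit.ι_desc _ _).trans ?_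
  show (Spec.map (CommRingCat.ofHom (wMap X U)) ≫ U.2.isoSpec.inv) ≫ U.1.ι = _
  rw [Category.assoc, IsAffineOpen.isoSpec_inv_ι]

instance isReduced_awn : AlgebraicGeometry.IsReduced (awn X) :=
  haveI : ∀ U, AlgebraicGeometry.IsReduced ((awnCover X).X U) := fun U => by
    haveI := isReduced_of_isRingAWN (wMap_spec X U)
    show AlgebraicGeometry.IsReduced (Spec (CommRingCat.of (WObj X U)))
    infer_instance
  .of_openCover _ (awnCover X)

lemma isUnivHomeo_awnMap : FlatMor.IsUnivHomeo (awnMap X) := by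
  have hloc : ∀ (P : MorphismProperty Scheme.{u}) [IsZariskiLocalAtTarget P],
      (∀ U : X.AffineZariskiSite, P (Spec.map (CommRingCat.ofHom (wMap X U)))) → P (awnMap X) := by
    intro P _ hP
    refine IsZariskiLocalAtTarget.of_openCover (𝒰 := directedCover X) fun U => ?_
    show P (pullback.snd (awnMap X) U.1.ι)
    have H := (wGlue X).isPullback_natTrans_ι_toBase U
    have e : pullback.snd (awnMap X) U.1.ι = H.flip.isoPullback.inv ≫ (wGlue X).natTrans.app U :=
      (H.flip.isoPullback_inv_snd).symm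
    rw [e]
    exact (MorphismProperty.cancel_left_of_respectsIso P _ _).mpr
      ((MorphismProperty.cancel_right_of_respectsIso P (Spec.map (CommRingCat.ofHom (wMap X U))) U.2.isoSpec.inv).mpr
        (hP U))
  have h := fun U => (FlatBasics.isUnivHomeo_iff _).mp (wMap_spec X U).1
  exact (FlatBasics.isUnivHomeo_iff _).mpr
    ⟨hloc @UniversallyClosed fun U => (h U).1, hloc @UniversallyInjective fun U => (h U).2.1,
      hloc @Surjective fun U => (h U).2.2⟩

lemma exists_awn_hom {Y : Scheme.{u}} (π : Y ⟶ X) (hπ : FlatMor.IsUnivHomeo π) :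
    ∃ h : awn X ⟶ Y, h ≫ π = awnMap X := by
  haveI := FlatBasics.isAffineHom_of_isUnivHomeo hπ
  have hU : ∀ U : X.AffineZariskiSite, FlatMor.IsUnivHomeo (Spec.map (CommRingCat.ofHom (π.app U.1).hom)) :=
    fun U => isUnivHomeo_app π hπ ⟨U.1, U.2⟩
  have hex : ∀ U : X.AffineZariskiSite, ∃ χ : Γ(Y, π ⁻¹ᵁ U.1) →+* WObj X U,
      χ.comp (π.app U.1).hom = wMap X U := fun U => ((wMap_spec X U).2 _ _ (hU U)).exists
  choose χ hχ using hex
  refine ⟨colimit.desc _
    { pt := Y
      ι :=
        { app := fun U => Spec.map (CommRingCat.ofHom (χ U)) ≫ (U.2.preimage π).fromSpec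
          naturality := fun U V i => ?_ } }, ?_⟩
  · show Spec.map (CommRingCat.ofHom (wRes X i.le)) ≫ Spec.map (CommRingCat.ofHom (χ V)) ≫ (V.2.preimage π).fromSpec =
      (Spec.map (CommRingCat.ofHom (χ U)) ≫ (U.2.preimage π).fromSpec) ≫ 𝟙 Y
    rw [Category.comp_id, ← Spec.map_comp_assoc,
      ← (V.2.preimage π).map_fromSpec (U.2.preimage π) (homOfLE (π.preimage_mono (toOpens_mono i.le))).op,
      ← Spec.map_comp_assoc]
    congr 2
    haveI := isReduced_of_isRingAWN (wMap_spec X U)
    refine CommRingCat.hom_ext (hom_ext_of_univHomeo (π.app V.1).hom (hU V) ?_)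
    change ((wRes X i.le).comp (χ V)).comp (π.app V.1).hom = ((χ U).comp _).comp (π.app V.1).hom
    rw [RingHom.comp_assoc, hχ, wRes_comp, ← hχ U, RingHom.comp_assoc, RingHom.comp_assoc]
    congr 1
    exact congrArg CommRingCat.Hom.hom (π.naturality (homOfLE (toOpens_mono i.le)).op)
  · refine Scheme.Cover.hom_ext (awnCover X) _ _ fun U => ?_
    rw [awnCover_comp, ← Category.assoc]
    refine (congrArg (· ≫ π) (colimit.ι_desc _ _)).trans ?_
    show (Spec.map (CommRingCat.ofHom (χ U)) ≫ (U.2.preimage π).fromSpec) ≫ π = _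
    refine (Category.assoc _ _ _).trans ?_
    refine (congrArg (Spec.map (CommRingCat.ofHom (χ U)) ≫ ·)
      (IsAffineOpen.SpecMap_appLE_fromSpec π U.2 (U.2.preimage π) le_rfl).symm).trans ?_
    refine (Spec.map_comp_assoc _ _ _).symm.trans ?_
    congr 2
    refine CommRingCat.hom_ext ?_
    rw [← Scheme.Hom.app_eq_appLE]
    exact hχ U

theorem isAWNormalization_awnMap : HTop.IsAWNormalization (awnMap X) :=
  ⟨isUnivHomeo_awnMap X, fun Y π hπ => by
    obtain ⟨h, hh⟩ := exists_awn_hom X π hπ
    exact ⟨h, hh, fun h' hh' => hom_ext_of_reduced hπ (hh'.trans hh.symm)⟩⟩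

theorem isAWN_awn : HTop.IsAWN (awn X) := fun x => by
  obtain ⟨U, y, rfl⟩ := (awnCover X).exists_eq x
  haveI : IsAffine ((awnCover X).X U) := inferInstanceAs (IsAffine (Spec (CommRingCat.of (WObj X U))))
  refine ⟨⟨((awnCover X).f U).opensRange, isAffineOpen_opensRange _⟩, ⟨y, rfl⟩, ?_⟩
  let f : Spec (CommRingCat.of (WObj X U)) ⟶ awn X := (awnCover X).f U
  haveI : IsOpenImmersion f := inferInstanceAs (IsOpenImmersion ((awnCover X).f U))
  refine isAWNRing_of_equiv ?_ (isAWNRing_of_isRingAWN (wMap_spec X U))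
  exact ((Scheme.ΓSpecIso (CommRingCat.of (WObj X U))).symm ≪≫ (f.appIso ⊤).symm ≪≫
    (awn X).presheaf.mapIso (eqToIso (congrArg Opposite.op (f.image_top_eq_opensRange)))).commRingCatIsoToRingEquiv

variable {X}

lemma isAWN_of_isIso {Y : Scheme.{u}} (f : Y ⟶ X) [IsIso f] (h : HTop.IsAWN X) : HTop.IsAWN Y :=
  isAWN_iff.mpr fun V => isAWNRing_of_equiv (f.appIso V.1).commRingCatIsoToRingEquiv
    (isAWN_iff.mp h ⟨f ''ᵁ V.1, V.2.image_of_isOpenImmersion f⟩)

/-- The source of any absolute weak normalization is absolutely weakly normal. -/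
theorem isAWN_of_isAWNormalization {X' : Scheme.{u}} (ν : X' ⟶ X) (hν : HTop.IsAWNormalization ν) :
    HTop.IsAWN X' := by
  obtain ⟨a, ha, -⟩ := hν.2 _ _ (isUnivHomeo_awnMap X)
  obtain ⟨b, hb, -⟩ := (isAWNormalization_awnMap X).2 _ _ hν.1
  haveI := isReduced_of_isAWNormalization ν hν
  have h1 : a ≫ b = 𝟙 X' := hom_ext_of_reduced hν.1 (by rw [Category.assoc, hb, ha, Category.id_comp])
  have h2 : b ≫ a = 𝟙 _ := hom_ext_of_reduced (isUnivHomeo_awnMap X) (by rw [Category.assoc, ha, hb, Category.id_comp])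
  haveI : IsIso a := ⟨b, h1, h2⟩
  exact isAWN_of_isIso a (isAWN_awn X)

end Groth.Agent.AWN
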