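import Groth.Agent.AWN.Criteria
import Mathlib.RingTheory.LocalProperties.Reduced
import Mathlib.RingTheory.LocalProperties.Basic

/-!
Seminormality and absolute weak normality are local.
-/

set_option autoImplicit false

universe u

namespace Groth.Agent.AWN

variable {A B : Type u} [CommRing A] [CommRing B]

lemma exists_residue_root_sq {x y : A} (hxy : x ^ 3 = y ^ 2) (P : PrimeSpectrum A) :
    ∃ t : P.asIdeal.ResidueField, t ^ 2 = algebraMap A _ x ∧ t ^ 3 = algebraMap A _ y :=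
  exists_root_seminormal hxy _ _

lemma eq_mul_root {x y r c : A} (h2 : c ^ 2 = r ^ 2 * x) (h3 : c ^ 3 = r ^ 3 * y) {K : Type u} [Field K]
    (g : A →+* K) {t : K} (ht2 : t ^ 2 = g x) (ht3 : t ^ 3 = g y) : g c = g r * t :=
  eq_of_sq_cube_field (by rw [mul_pow, ht2, ← map_pow, ← map_pow, ← map_mul, h2])
    (by rw [mul_pow, ht3, ← map_pow, ← map_pow, ← map_mul, h3])

theorem isSeminormalRing_away (hA : HTop.IsSeminormalRing A) (f : A) :
    HTop.IsSeminormalRing (Localization.Away f) := by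
  haveI := isReduced_of_seminormal hA
  haveI : IsReduced (Localization.Away f) := isReduced_localizationPreserves (Submonoid.powers f) _ inferInstance
  intro x y hxy
  obtain ⟨n₁, a, ha⟩ := IsLocalization.Away.surj f x
  obtain ⟨n₂, b, hb⟩ := IsLocalization.Away.surj f y
  obtain ⟨F, hF⟩ : ∃ F, F = algebraMap A (Localization.Away f) f := ⟨_, rfl⟩
  rw [← hF] at ha hb
  have hu : IsUnit F := hF ▸ IsLocalization.Away.algebraMap_isUnit f
  obtain ⟨n, hn⟩ : ∃ n, n = n₁ + n₂ := ⟨_, rfl⟩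
  have ha' : x * F ^ (2 * n) = algebraMap A _ (a * f ^ (n₁ + 2 * n₂)) := by
    rw [map_mul, map_pow, ← ha, ← hF, hn]; ring
  have hb' : y * F ^ (3 * n) = algebraMap A _ (b * f ^ (3 * n₁ + 2 * n₂)) := by
    rw [map_mul, map_pow, ← hb, ← hF, hn]; ring
  have heq : algebraMap A (Localization.Away f) ((a * f ^ (n₁ + 2 * n₂)) ^ 3) =
      algebraMap A (Localization.Away f) ((b * f ^ (3 * n₁ + 2 * n₂)) ^ 2) := by
    rw [map_pow _ (a * f ^ (n₁ + 2 * n₂)), map_pow _ (b * f ^ (3 * n₁ + 2 * n₂)), ← ha', ← hb', mul_pow, mul_pow,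
      hxy, ← pow_mul, ← pow_mul]
    ring
  obtain ⟨⟨_, m, rfl⟩, hm⟩ := IsLocalization.exists_of_eq (M := Submonoid.powers f) heq
  obtain ⟨c, ⟨hc2, hc3⟩, -⟩ := hA (f ^ (2 * m) * (a * f ^ (n₁ + 2 * n₂))) (f ^ (3 * m) * (b * f ^ (3 * n₁ + 2 * n₂))) (by
    calc _ = f ^ (5 * m) * (f ^ m * (a * f ^ (n₁ + 2 * n₂)) ^ 3) := by ring
      _ = f ^ (5 * m) * (f ^ m * (b * f ^ (3 * n₁ + 2 * n₂)) ^ 2) := congrArg _ hm
      _ = _ := by ring)
  obtain ⟨v, hv⟩ := (hu.pow (n + m)).exists_right_inv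
  have e2 : (algebraMap A _ c * v) ^ 2 = x := by
    rw [mul_pow, ← map_pow, ← hc2, map_mul _ (f ^ (2 * m)), map_pow, ← ha', ← hF]
    calc _ = x * (F ^ (n + m) * v) ^ 2 := by ring
      _ = x := by rw [hv, one_pow, mul_one]
  have e3 : (algebraMap A _ c * v) ^ 3 = y := by
    rw [mul_pow, ← map_pow, ← hc3, map_mul _ (f ^ (3 * m)), map_pow, ← hb', ← hF]
    calc _ = y * (F ^ (n + m) * v) ^ 3 := by ring
      _ = y := by rw [hv, one_pow, mul_one]
  exact ⟨_, ⟨e2.symm, e3.symm⟩, fun b hb => eq_of_sq_cube (hb.1.symm.trans e2.symm) (hb.2.symm.trans e3.symm)⟩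

theorem isAWNRing_away (hA : HTop.IsAWNRing A) (f : A) : HTop.IsAWNRing (Localization.Away f) := by
  haveI := isReduced_of_seminormal hA.1
  haveI : IsReduced (Localization.Away f) := isReduced_localizationPreserves (Submonoid.powers f) _ inferInstance
  refine ⟨isSeminormalRing_away hA.1 f, fun p hp x y hxy => ?_⟩
  obtain ⟨n₁, a, ha⟩ := IsLocalization.Away.surj f x
  obtain ⟨n₂, b, hb⟩ := IsLocalization.Away.surj f y
  obtain ⟨F, hF⟩ : ∃ F, F = algebraMap A (Localization.Away f) f := ⟨_, rfl⟩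
  rw [← hF] at ha hb
  have hu : IsUnit F := hF ▸ IsLocalization.Away.algebraMap_isUnit f
  obtain ⟨k, hk⟩ := Nat.exists_eq_add_of_le' hp.pos
  have ha' : x * F ^ (p * (n₁ + n₂)) = algebraMap A _ (a * f ^ (p * n₂ + k * n₁)) := by
    rw [map_mul, map_pow, ← ha, ← hF, hk]; ring
  have hb' : y * F ^ (n₁ + n₂) = algebraMap A _ (b * f ^ n₁) := by
    rw [map_mul, map_pow, ← hb, ← hF]; ring
  have heq : algebraMap A (Localization.Away f) ((p : A) ^ p * (a * f ^ (p * n₂ + k * n₁))) =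
      algebraMap A (Localization.Away f) ((b * f ^ n₁) ^ p) := by
    rw [map_mul _ ((p : A) ^ p), map_pow _ (b * f ^ n₁), map_pow, map_natCast, ← ha', ← hb', mul_pow, ← hxy,
      ← pow_mul, mul_comm p]
    ring
  obtain ⟨⟨_, m, rfl⟩, hm⟩ := IsLocalization.exists_of_eq (M := Submonoid.powers f) heq
  obtain ⟨c, ⟨hc1, hc2⟩, -⟩ := hA.2 p hp (f ^ (p * m) * (a * f ^ (p * n₂ + k * n₁))) (f ^ m * (b * f ^ n₁)) (by
    calc _ = f ^ (k * m) * (f ^ m * ((p : A) ^ p * (a * f ^ (p * n₂ + k * n₁)))) := by rw [hk]; ring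
      _ = f ^ (k * m) * (f ^ m * (b * f ^ n₁) ^ p) := congrArg _ hm
      _ = _ := by rw [hk]; ring)
  obtain ⟨v, hv⟩ := (hu.pow (n₁ + n₂ + m)).exists_right_inv
  have e1 : (algebraMap A _ c * v) ^ p = x := by
    rw [mul_pow, ← map_pow, ← hc1, map_mul _ (f ^ (p * m)), map_pow, ← ha', ← hF]
    calc _ = x * (F ^ (n₁ + n₂ + m) * v) ^ p := by rw [mul_pow, ← pow_mul, add_mul, pow_add]; ring
      _ = x := by rw [hv, one_pow, mul_one]
  have e2 : (p : Localization.Away f) * (algebraMap A _ c * v) = y := by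
    rw [← mul_assoc, ← map_natCast (algebraMap A (Localization.Away f)), ← map_mul, ← hc2, map_mul _ (f ^ m), map_pow,
      ← hb', ← hF]
    calc _ = y * (F ^ (n₁ + n₂ + m) * v) := by ring
      _ = y := by rw [hv, mul_one]
  exact ⟨_, ⟨e1.symm, e2.symm⟩, fun b hb => eq_of_pow_prime hp (hb.1.symm.trans e1.symm) (hb.2.symm.trans e2.symm)⟩

lemma isReduced_of_span {s : Set A} (hs : Ideal.span s = ⊤) (h : ∀ f ∈ s, IsReduced (Localization.Away f)) :
    IsReduced A := by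
  refine ⟨fun a ha => ?_⟩
  refine eq_zero_of_localization a fun J hJ => ?_
  obtain ⟨f, hf, hfJ⟩ := Set.not_subset.mp fun hsub : s ⊆ J =>
    hJ.ne_top (top_le_iff.mp (hs ▸ Ideal.span_le.mpr hsub))
  haveI := h f hf
  have h0 : algebraMap A (Localization.Away f) a = 0 := (ha.map _).eq_zero
  obtain ⟨⟨_, n, rfl⟩, hn⟩ := (IsLocalization.map_eq_zero_iff (Submonoid.powers f) _ _).mp h0
  exact (IsLocalization.map_eq_zero_iff J.primeCompl _ _).mpr
    ⟨⟨f ^ n, fun e => hfJ (hJ.isPrime.mem_of_pow_mem n e)⟩, hn⟩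

theorem isSeminormalRing_of_span {s : Set A} (hs : Ideal.span s = ⊤)
    (h : ∀ f ∈ s, HTop.IsSeminormalRing (Localization.Away f)) : HTop.IsSeminormalRing A := by
  haveI := isReduced_of_span hs fun f hf => isReduced_of_seminormal (h f hf)
  intro x y hxy
  obtain ⟨J, hJ⟩ : ∃ J : Ideal A, ∀ r, r ∈ J ↔ ∃ c, c ^ 2 = r ^ 2 * x ∧ c ^ 3 = r ^ 3 * y :=
    ⟨{ carrier := {r | ∃ c, c ^ 2 = r ^ 2 * x ∧ c ^ 3 = r ^ 3 * y}
       add_mem' := fun {r r'} ⟨c, h2, h3⟩ ⟨c', h2', h3'⟩ => by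
         refine ⟨c + c', eq_of_residue fun P => ?_, eq_of_residue fun P => ?_⟩
         all_goals
           obtain ⟨t, ht2, ht3⟩ := exists_residue_root_sq hxy P
           simp only [map_pow, map_mul, map_add, eq_mul_root h2 h3 _ ht2 ht3, eq_mul_root h2' h3' _ ht2 ht3,
             ← ht2, ← ht3]
           ring
       zero_mem' := ⟨0, by simp⟩
       smul_mem' := fun a r ⟨c, h2, h3⟩ => ⟨a * c, by rw [mul_pow, h2, smul_eq_mul]; ring,
         by rw [mul_pow, h3, smul_eq_mul]; ring⟩ }, fun r => Iff.rfl⟩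
  have key : ∀ f : s, ∃ k : ℕ, (f : A) ^ k ∈ J := fun f => by
    obtain ⟨d, ⟨hd2, hd3⟩, -⟩ := h f f.2 (algebraMap A _ x) (algebraMap A _ y) (by rw [← map_pow, hxy, map_pow])
    obtain ⟨n, a, ha⟩ := IsLocalization.Away.surj (f : A) d
    have e2 : algebraMap A (Localization.Away (f : A)) (a ^ 2) = algebraMap A _ ((f : A) ^ (2 * n) * x) := by
      rw [map_pow, ← ha, mul_pow, ← hd2, map_mul, map_pow]; ring
    have e3 : algebraMap A (Localization.Away (f : A)) (a ^ 3) = algebraMap A _ ((f : A) ^ (3 * n) * y) := by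
      rw [map_pow, ← ha, mul_pow, ← hd3, map_mul, map_pow]; ring
    obtain ⟨⟨_, m₁, rfl⟩, hm₁⟩ := IsLocalization.exists_of_eq (M := Submonoid.powers (f : A)) e2
    obtain ⟨⟨_, m₂, rfl⟩, hm₂⟩ := IsLocalization.exists_of_eq (M := Submonoid.powers (f : A)) e3
    refine ⟨n + (m₁ + m₂), (hJ _).mpr ⟨(f : A) ^ (m₁ + m₂) * a, ?_, ?_⟩⟩
    · calc _ = (f : A) ^ (m₁ + 2 * m₂) * ((f : A) ^ m₁ * a ^ 2) := by ring
        _ = (f : A) ^ (m₁ + 2 * m₂) * ((f : A) ^ m₁ * ((f : A) ^ (2 * n) * x)) := congrArg _ hm₁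
        _ = _ := by ring
    · calc _ = (f : A) ^ (3 * m₁ + 2 * m₂) * ((f : A) ^ m₂ * a ^ 3) := by ring
        _ = (f : A) ^ (3 * m₁ + 2 * m₂) * ((f : A) ^ m₂ * ((f : A) ^ (3 * n) * y)) := congrArg _ hm₂
        _ = _ := by ring
  choose k hk using key
  have h1 : (1 : A) ∈ J := Ideal.span_le.mpr (by rintro _ ⟨f, rfl⟩; exact hk f)
    ((Ideal.span_range_pow_eq_top s hs k).ge Submodule.mem_top)
  obtain ⟨c, h2, h3⟩ := (hJ 1).mp h1
  rw [one_pow, one_mul] at h2 h3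
  exact ⟨c, ⟨h2.symm, h3.symm⟩, fun b hb => eq_of_sq_cube (hb.1.symm.trans h2.symm) (hb.2.symm.trans h3.symm)⟩

lemma exists_frob_add {K : Type u} [Field K] {p : ℕ} (hp : p.Prime) {x y r r' c c' : K}
    (hxy : (p : K) ^ p * x = y ^ p) (h1 : c ^ p = r ^ p * x) (h2 : (p : K) * c = r * y)
    (h1' : c' ^ p = r' ^ p * x) (h2' : (p : K) * c' = r' * y) : (c + c') ^ p = (r + r') ^ p * x := by
  by_cases h0 : (p : K) = 0
  · haveI : Fact p.Prime := ⟨hp⟩
    haveI : CharP K p := (CharP.charP_iff_prime_eq_zero hp).mpr h0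
    rw [add_pow_char, add_pow_char, h1, h1', add_mul]
  · refine mul_left_cancel₀ (pow_ne_zero p h0) ?_
    rw [← mul_pow, mul_add, h2, h2', ← add_mul, mul_pow, ← hxy]; ring

theorem isAWNRing_of_span {s : Set A} (hs : Ideal.span s = ⊤)
    (h : ∀ f ∈ s, HTop.IsAWNRing (Localization.Away f)) : HTop.IsAWNRing A := by
  refine ⟨isSeminormalRing_of_span hs fun f hf => (h f hf).1, fun p hp x y hxy => ?_⟩
  haveI := isReduced_of_span hs fun f hf => isReduced_of_seminormal (h f hf).1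
  obtain ⟨J, hJ⟩ : ∃ J : Ideal A, ∀ r, r ∈ J ↔ ∃ c, c ^ p = r ^ p * x ∧ (p : A) * c = r * y :=
    ⟨{ carrier := {r | ∃ c, c ^ p = r ^ p * x ∧ (p : A) * c = r * y}
       add_mem' := fun {r r'} ⟨c, h1, h2⟩ ⟨c', h1', h2'⟩ => by
         refine ⟨c + c', eq_of_residue fun P => ?_, by rw [mul_add, h2, h2', add_mul]⟩
         rw [map_pow, map_add, map_mul, map_pow, map_add]
         refine exists_frob_add hp (x := algebraMap A P.asIdeal.ResidueField x) (y := algebraMap A _ y) ?_ ?_ ?_ ?_ ?_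
         all_goals first
           | rw [← map_pow, ← map_pow, ← map_mul, h1]
           | rw [← map_pow, ← map_pow, ← map_mul, h1']
           | rw [← map_natCast (algebraMap A P.asIdeal.ResidueField), ← map_pow, ← map_mul, hxy, map_pow]
           | rw [← map_natCast (algebraMap A P.asIdeal.ResidueField), ← map_mul, ← map_mul, h2]
           | rw [← map_natCast (algebraMap A P.asIdeal.ResidueField), ← map_mul, ← map_mul, h2']
       zero_mem' := ⟨0, by simp [zero_pow hp.ne_zero]⟩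
       smul_mem' := fun a r ⟨c, h1, h2⟩ => ⟨a * c, by rw [mul_pow, h1, smul_eq_mul, mul_pow, mul_assoc],
         by rw [mul_left_comm, h2, smul_eq_mul, mul_assoc]⟩ }, fun r => Iff.rfl⟩
  have key : ∀ f : s, ∃ k : ℕ, (f : A) ^ k ∈ J := fun f => by
    obtain ⟨d, ⟨hd1, hd2⟩, -⟩ := (h f f.2).2 p hp (algebraMap A _ x) (algebraMap A _ y)
      (by rw [← map_natCast (algebraMap A (Localization.Away (f : A))), ← map_pow, ← map_mul, hxy, map_pow])
    obtain ⟨n, a, ha⟩ := IsLocalization.Away.surj (f : A) d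
    have e1 : algebraMap A (Localization.Away (f : A)) (a ^ p) = algebraMap A _ ((f : A) ^ (p * n) * x) := by
      rw [map_pow, ← ha, mul_pow, ← hd1, map_mul, map_pow, ← pow_mul, mul_comm p n, mul_comm]
    have e2 : algebraMap A (Localization.Away (f : A)) ((p : A) * a) = algebraMap A _ ((f : A) ^ n * y) := by
      rw [map_mul, map_natCast, ← ha, map_mul, map_pow, hd2]; ring
    obtain ⟨⟨_, m₁, rfl⟩, hm₁⟩ := IsLocalization.exists_of_eq (M := Submonoid.powers (f : A)) e1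
    obtain ⟨⟨_, m₂, rfl⟩, hm₂⟩ := IsLocalization.exists_of_eq (M := Submonoid.powers (f : A)) e2
    obtain ⟨l, hl⟩ := Nat.exists_eq_add_of_le' hp.pos
    refine ⟨n + (m₁ + m₂), (hJ _).mpr ⟨(f : A) ^ (m₁ + m₂) * a, ?_, ?_⟩⟩
    · calc _ = (f : A) ^ (l * m₁ + p * m₂) * ((f : A) ^ m₁ * a ^ p) := by
            rw [mul_pow, ← pow_mul, hl]; ring
        _ = (f : A) ^ (l * m₁ + p * m₂) * ((f : A) ^ m₁ * ((f : A) ^ (p * n) * x)) := congrArg _ hm₁
        _ = _ := by rw [← pow_mul, hl]; ring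
    · calc _ = (f : A) ^ m₁ * ((f : A) ^ m₂ * ((p : A) * a)) := by ring
        _ = (f : A) ^ m₁ * ((f : A) ^ m₂ * ((f : A) ^ n * y)) := congrArg _ hm₂
        _ = _ := by ring
  choose k hk using key
  have h1 : (1 : A) ∈ J := Ideal.span_le.mpr (by rintro _ ⟨f, rfl⟩; exact hk f)
    ((Ideal.span_range_pow_eq_top s hs k).ge Submodule.mem_top)
  obtain ⟨c, h1, h2⟩ := (hJ 1).mp h1
  rw [one_pow, one_mul] at h1
  rw [one_mul] at h2
  exact ⟨c, ⟨h1.symm, h2.symm⟩, fun b hb => eq_of_pow_prime hp (hb.1.symm.trans h1.symm) (hb.2.symm.trans h2.symm)⟩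

lemma isSeminormalRing_of_equiv (e : A ≃+* B) (h : HTop.IsSeminormalRing A) : HTop.IsSeminormalRing B := by
  intro x y hxy
  obtain ⟨a, ⟨ha, hb⟩, hu⟩ := h (e.symm x) (e.symm y) (by rw [← map_pow, hxy, map_pow])
  refine ⟨e a, ⟨by rw [← map_pow, ← ha, e.apply_symm_apply], by rw [← map_pow, ← hb, e.apply_symm_apply]⟩, ?_⟩
  rintro b ⟨rfl, rfl⟩
  rw [← hu (e.symm b) ⟨map_pow _ _ _, map_pow _ _ _⟩, e.apply_symm_apply]

lemma isAWNRing_of_equiv (e : A ≃+* B) (h : HTop.IsAWNRing A) : HTop.IsAWNRing B := by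
  refine ⟨isSeminormalRing_of_equiv e h.1, fun p hp x y hxy => ?_⟩
  obtain ⟨a, ⟨ha, hb⟩, hu⟩ := h.2 p hp (e.symm x) (e.symm y)
    (by rw [← map_natCast e.symm p, ← map_pow, ← map_mul, hxy, map_pow])
  refine ⟨e a, ⟨by rw [← map_pow, ← ha, e.apply_symm_apply],
    by rw [← map_natCast e p, ← map_mul, ← hb, e.apply_symm_apply]⟩, ?_⟩
  rintro b ⟨rfl, rfl⟩
  rw [← hu (e.symm b) ⟨map_pow _ _ _, by rw [map_mul, map_natCast]⟩, e.apply_symm_apply]

end Groth.Agent.AWN
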