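import Groth.Agent.EtaLib.SpecUH
import Mathlib.RingTheory.Nilpotent.Lemmas
import Mathlib.RingTheory.Ideal.MinimalPrime.Basic
import Mathlib.RingTheory.IntegralClosure.IsIntegralClosure.Basic
import Mathlib.RingTheory.TensorProduct.Maps
import Mathlib.RingTheory.Adjoin.PowerBasis

/-!
Seminormal and absolutely weakly normal rings: they have no nontrivial reduced extensions which are universal
homeomorphisms (with trivial residue extensions, for seminormal rings).
-/

set_option autoImplicit false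

universe u

open CategoryTheory AlgebraicGeometry
open scoped TensorProduct

namespace Groth.Agent.AWN

variable {A C : Type u} [CommRing A] [CommRing C]

/-- Equality in reduced rings can be tested on residue fields. -/
lemma eq_of_residue [IsReduced C] {a b : C}
    (h : ∀ P : PrimeSpectrum C, algebraMap C P.asIdeal.ResidueField a = algebraMap C P.asIdeal.ResidueField b) :
    a = b := by
  refine sub_eq_zero.mp (nilpotent_iff_mem_prime.mpr fun J hJ => ?_ : IsNilpotent (a - b)).eq_zero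
  refine Ideal.algebraMap_residueField_eq_zero.mp ?_
  rw [map_sub, sub_eq_zero]
  exact h ⟨J, hJ⟩

lemma eq_of_sq_cube_field {K : Type u} [Field K] {a b : K} (h2 : a ^ 2 = b ^ 2) (h3 : a ^ 3 = b ^ 3) : a = b := by
  by_cases ha : a = 0
  · subst ha
    exact (eq_zero_of_pow_eq_zero (n := 2) (by rw [← h2]; simp)).symm
  refine mul_left_cancel₀ (pow_ne_zero 2 ha) ?_
  linear_combination h3 - b * h2

lemma eq_of_sq_cube [IsReduced C] {a b : C} (h2 : a ^ 2 = b ^ 2) (h3 : a ^ 3 = b ^ 3) : a = b :=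
  eq_of_residue fun P => eq_of_sq_cube_field (by rw [← map_pow, ← map_pow, h2]) (by rw [← map_pow, ← map_pow, h3])

lemma eq_of_pow_prime_field {K : Type u} [Field K] {p : ℕ} (hp : p.Prime) {a b : K} (h1 : a ^ p = b ^ p)
    (h2 : (p : K) * a = (p : K) * b) : a = b := by
  by_cases h0 : (p : K) = 0
  · haveI : Fact p.Prime := ⟨hp⟩
    haveI : CharP K p := (CharP.charP_iff_prime_eq_zero hp).mpr h0
    exact frobenius_inj K p (by simpa [frobenius_def] using h1)
  · exact mul_left_cancel₀ h0 h2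

lemma eq_of_pow_prime [IsReduced C] {p : ℕ} (hp : p.Prime) {a b : C} (h1 : a ^ p = b ^ p)
    (h2 : (p : C) * a = (p : C) * b) : a = b :=
  eq_of_residue fun P => eq_of_pow_prime_field hp (by rw [← map_pow, ← map_pow, h1])
    (by rw [← map_natCast (algebraMap C P.asIdeal.ResidueField), ← map_mul, ← map_mul, h2])

lemma isReduced_of_seminormal (hA : HTop.IsSeminormalRing A) : IsReduced A := by
  refine isReduced_iff_pow_one_lt 2 one_lt_two |>.mpr fun a ha => ?_
  obtain ⟨b, -, hu⟩ := hA 0 0 (by simp)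
  rw [hu a ⟨ha.symm, by rw [pow_succ, ha, zero_mul]⟩, hu 0 ⟨by simp, by simp⟩]

lemma mem_range_of_sq_cube (hA : HTop.IsSeminormalRing A) [IsReduced C] (ψ : A →+* C)
    (hi : Function.Injective ψ) {c : C} (h2 : c ^ 2 ∈ ψ.range) (h3 : c ^ 3 ∈ ψ.range) : c ∈ ψ.range := by
  obtain ⟨x, hx⟩ := h2
  obtain ⟨y, hy⟩ := h3
  obtain ⟨a, ⟨ha2, ha3⟩, -⟩ := hA x y (hi (by rw [map_pow, map_pow, hx, hy]; ring))
  exact ⟨a, eq_of_sq_cube (by rw [← map_pow, ← ha2, hx]) (by rw [← map_pow, ← ha3, hy])⟩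

lemma mem_range_of_eventually (hA : HTop.IsSeminormalRing A) [IsReduced C] (ψ : A →+* C)
    (hi : Function.Injective ψ) (c : C) : ∀ k : ℕ, (∀ m, k ≤ m → c ^ m ∈ ψ.range) → c ∈ ψ.range
  | 0, h => by simpa using h 1 zero_le_one
  | 1, h => by simpa using h 1 le_rfl
  | k + 2, h => mem_range_of_eventually hA ψ hi c (k + 1) fun m hm => by
      rcases eq_or_lt_of_le hm with e | e
      · subst e
        refine mem_range_of_sq_cube hA ψ hi ?_ ?_ <;> rw [← pow_mul] <;> refine h _ ?_ <;> omega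
      · exact h m (by omega)

/-- The conductor of `ψ` in `C`. -/
def cond (ψ : A →+* C) : Ideal C where
  carrier := {z | ∀ c, z * c ∈ ψ.range}
  add_mem' hx hy c := by rw [add_mul]; exact Subring.add_mem _ (hx c) (hy c)
  zero_mem' c := by rw [zero_mul]; exact Subring.zero_mem _
  smul_mem' r z hz c := by rw [smul_eq_mul, mul_comm r z, mul_assoc]; exact hz _

lemma cond_radical (hA : HTop.IsSeminormalRing A) [IsReduced C] (ψ : A →+* C)
    (hi : Function.Injective ψ) : (cond ψ).IsRadical := by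
  intro z hz c
  obtain ⟨n, hn⟩ := hz
  refine mem_range_of_eventually hA ψ hi _ n fun m hm => ?_
  obtain ⟨d, rfl⟩ := Nat.exists_eq_add_of_le hm
  rw [mul_pow, pow_add z, mul_assoc]
  exact hn _

/-- At a minimal prime of the conductor, elements of the prime above are in the conductor up to a unit. -/
lemma exists_mul_mem_cond (hA : HTop.IsSeminormalRing A) [IsReduced C] (ψ : A →+* C)
    (hi : Function.Injective ψ) (hb : Function.Injective (PrimeSpectrum.comap ψ)) (P : Ideal A)
    (hP : P ∈ ((cond ψ).comap ψ).minimalPrimes) (Q : PrimeSpectrum C) (hQ : Q.asIdeal.comap ψ = P) {z : C}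
    (hz : z ∈ Q.asIdeal) : ∃ t ∉ P, ψ t * z ∈ cond ψ := by
  haveI := hP.1.1
  by_contra hne
  push Not at hne
  let M : Submonoid C := P.primeCompl.map ψ ⊔ Submonoid.powers z
  have hd : Disjoint (cond ψ : Set C) M := Set.disjoint_left.mpr fun w hw hwM => by
    obtain ⟨_, ⟨t, ht, rfl⟩, _, ⟨k, rfl⟩, rfl⟩ := Submonoid.mem_sup.mp hwM
    refine hne t ht (cond_radical hA ψ hi ⟨k + 1, ?_⟩)
    rw [show (ψ t * z) ^ (k + 1) = (ψ t ^ k * z) * (ψ t * z ^ k) by ring]
    exact (cond ψ).mul_mem_left _ hw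
  obtain ⟨Q', hQ', hle, hd'⟩ := Ideal.exists_le_prime_disjoint (cond ψ) M hd
  have hle' : Q'.comap ψ ≤ P := fun a ha => by_contra fun hn =>
    Set.disjoint_left.mp hd' ha (Submonoid.mem_sup_left (Submonoid.mem_map_of_mem ψ hn))
  have h2 : Q'.comap ψ = P :=
    le_antisymm hle' (hP.2 ⟨Ideal.IsPrime.comap ψ, Ideal.comap_mono hle⟩ hle')
  have h3 : (⟨Q', hQ'⟩ : PrimeSpectrum C) = Q := hb (PrimeSpectrum.ext (h2.trans hQ.symm))
  exact Set.disjoint_left.mp hd' (show z ∈ Q' by rw [show Q' = Q.asIdeal from congrArg PrimeSpectrum.asIdeal h3]; exact hz)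
    (Submonoid.mem_sup_right (Submonoid.mem_powers z))

/-- If every element is in the range up to elements outside each minimal prime of the conductor, `ψ` is onto,
for `C` generated by one integral element. -/
lemma top_of_local (ψ : A →+* C) (hint : ψ.IsIntegral) (c : C)
    (hgen : letI := ψ.toAlgebra; Algebra.adjoin A ({c} : Set C) = ⊤)
    (h : ∀ P ∈ ((cond ψ).comap ψ).minimalPrimes, ∀ d : C, ∃ u ∉ P, ψ u * d ∈ ψ.range) : c ∈ ψ.range := by
  letI := ψ.toAlgebra
  by_contra hc
  have hne : (cond ψ).comap ψ ≠ ⊤ := fun e => hc (by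
    have := (Ideal.eq_top_iff_one _).mp e
    simpa using this c)
  obtain ⟨m, hm, hle⟩ := Ideal.exists_le_maximal _ hne
  obtain ⟨P, hP, -⟩ := Ideal.exists_minimalPrimes_le hle
  haveI := hP.1.1
  obtain ⟨s, hs⟩ := IsIntegral.fg_adjoin_singleton (R := A) (x := c) (hint c)
  choose u hu hu' using h P hP
  classical
  have hU : (∏ d ∈ s, u d) ∉ P := fun e => by
    obtain ⟨d, -, hd⟩ := (Ideal.IsPrime.prod_mem_iff (hp := hP.1.1)).mp e
    exact hu d hd
  refine hU (hP.1.2 fun d => ?_)
  have hd : d ∈ Submodule.span A (s : Set C) := by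
    rw [hs, hgen]; exact Submodule.mem_top
  induction hd using Submodule.span_induction with
  | mem d hd =>
    rw [← Finset.prod_erase_mul s u hd, map_mul, mul_assoc]
    exact Subring.mul_mem _ ⟨_, rfl⟩ (hu' d)
  | zero => rw [mul_zero]; exact Subring.zero_mem _
  | add x y _ _ hx hy => rw [mul_add]; exact Subring.add_mem _ hx hy
  | smul a x _ hx =>
    rw [Algebra.smul_def, mul_left_comm]
    exact Subring.mul_mem _ ⟨a, rfl⟩ hx

lemma exists_pow_step (ψ : A →+* C) (h : FlatMor.IsUnivHomeo (Spec.map (CommRingCat.ofHom ψ)))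
    (Q : PrimeSpectrum C) (c : C) :
    ∃ (n : ℕ) (s a : A), s ∉ (PrimeSpectrum.comap ψ Q).asIdeal ∧
      ψ s * c ^ ringExpChar (PrimeSpectrum.comap ψ Q).asIdeal.ResidueField ^ n - ψ a ∈ Q.asIdeal := by
  obtain ⟨n, z, hz⟩ := EtaLib.pow_mem_of_isUnivHomeo ψ h Q (algebraMap C _ c)
  obtain ⟨a', s', hs, rfl⟩ := IsFractionRing.div_surjective (A := A ⧸ (PrimeSpectrum.comap ψ Q).asIdeal) z
  obtain ⟨a, rfl⟩ := Ideal.Quotient.mk_surjective a'
  obtain ⟨s, rfl⟩ := Ideal.Quotient.mk_surjective s'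
  have hs' : s ∉ (PrimeSpectrum.comap ψ Q).asIdeal := fun e =>
    nonZeroDivisors.ne_zero hs (Ideal.Quotient.eq_zero_iff_mem.mpr e)
  refine ⟨n, s, a, hs', Ideal.algebraMap_residueField_eq_zero.mp ?_⟩
  have hz' : algebraMap C Q.asIdeal.ResidueField c ^ ringExpChar (PrimeSpectrum.comap ψ Q).asIdeal.ResidueField ^ n =
      algebraMap C Q.asIdeal.ResidueField (ψ a) / algebraMap C Q.asIdeal.ResidueField (ψ s) := by
    rw [← hz, map_div₀]
    exact congr_arg₂ (· / ·) (Ideal.ResidueField.map_algebraMap _ _ ψ rfl a)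
      (Ideal.ResidueField.map_algebraMap _ _ ψ rfl s)
  have hne : algebraMap C Q.asIdeal.ResidueField (ψ s) ≠ 0 := fun e =>
    hs' (show ψ s ∈ Q.asIdeal from Ideal.algebraMap_residueField_eq_zero.mp e)
  rw [map_sub, map_mul, map_pow, hz', mul_div_cancel₀ _ hne, sub_self]

/-- Injectivity of maps with surjective `Spec` out of a reduced ring. -/
lemma injective_of_surjective_comap [IsReduced A] (ψ : A →+* C) (hs : Function.Surjective (PrimeSpectrum.comap ψ)) :
    Function.Injective ψ := by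
  rw [injective_iff_map_eq_zero]
  intro a ha
  refine (nilpotent_iff_mem_prime.mpr fun J hJ => ?_ : IsNilpotent a).eq_zero
  obtain ⟨Q, hQ⟩ := hs ⟨J, hJ⟩
  have : a ∈ (PrimeSpectrum.comap ψ Q).asIdeal := by
    show ψ a ∈ Q.asIdeal
    rw [ha]; exact zero_mem _
  rwa [hQ] at this

/-- The subalgebra generated by one element still gives a universal homeomorphism. -/
lemma isUnivHomeo_factor {D : Type u} [CommRing D] (ψ : A →+* D) (ι : D →+* C) (hι : Function.Injective ι)
    (h : FlatMor.IsUnivHomeo (Spec.map (CommRingCat.ofHom (ι.comp ψ)))) :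
    FlatMor.IsUnivHomeo (Spec.map (CommRingCat.ofHom ψ)) := by
  obtain ⟨hi, hs, hu⟩ := (EtaLib.isUnivHomeo_Spec_iff _).mp h
  refine (EtaLib.isUnivHomeo_Spec_iff ψ).mpr ⟨fun d => ?_, ?_, fun K _ g g' e => ?_⟩
  · obtain ⟨F, hF, hF0⟩ := hi (ι d)
    exact ⟨F, hF, hι (by rw [Polynomial.hom_eval₂, map_zero]; exact hF0)⟩
  · intro P
    obtain ⟨Q, rfl⟩ := hs P
    exact ⟨PrimeSpectrum.comap ι Q, rfl⟩
  · have hι' : ι.IsIntegral := RingHom.IsIntegral.tower_top ψ ι hi
    have hιs : Function.Surjective (PrimeSpectrum.comap ι) := by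
      intro P
      letI := ι.toAlgebra
      letI : Algebra.IsIntegral D C := ⟨hι'⟩
      obtain ⟨Q, -, hQ, hQP⟩ := Ideal.exists_ideal_over_prime_of_isIntegral P.asIdeal (⊥ : Ideal C)
        (fun x hx => by
          have hx0 : ι x = 0 := hx
          rw [show x = 0 from hι (hx0.trans (map_zero ι).symm)]
          exact zero_mem _)
      exact ⟨⟨Q, hQ⟩, PrimeSpectrum.ext hQP⟩
    let j := algebraMap K (AlgebraicClosure K)
    obtain ⟨f, hf⟩ := EtaLib.exists_field_extend ι hι' hιs (j.comp g)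
    obtain ⟨f', hf'⟩ := EtaLib.exists_field_extend ι hι' hιs (j.comp g')
    have := hu (AlgebraicClosure K) f f' (by
      rw [← RingHom.comp_assoc, ← RingHom.comp_assoc, hf, hf', RingHom.comp_assoc, RingHom.comp_assoc, e])
    refine RingHom.ext fun x => j.injective ?_
    rw [← RingHom.comp_apply, ← RingHom.comp_apply, ← hf, ← hf', this]

lemma comap_injective_of_isUnivHomeo (ψ : A →+* C) (h : FlatMor.IsUnivHomeo (Spec.map (CommRingCat.ofHom ψ))) :
    Function.Injective (PrimeSpectrum.comap ψ) :=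
  (FlatBasics.isHomeomorph_of_isUnivHomeo h).injective

/-- An absolutely weakly normal ring has no nontrivial reduced universally homeomorphic extension. -/
theorem bijective_of_awn (hA : HTop.IsAWNRing A) [IsReduced C] (ψ : A →+* C)
    (h : FlatMor.IsUnivHomeo (Spec.map (CommRingCat.ofHom ψ))) : Function.Bijective ψ := by
  haveI := isReduced_of_seminormal hA.1
  have hinj := injective_of_surjective_comap ψ ((EtaLib.isUnivHomeo_Spec_iff ψ).mp h).2.1
  refine ⟨hinj, fun c => ?_⟩
  letI := ψ.toAlgebra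
  let D : Subalgebra A C := Algebra.adjoin A {c}
  let ψD : A →+* D := algebraMap A D
  have hD : FlatMor.IsUnivHomeo (Spec.map (CommRingCat.ofHom ψD)) :=
    isUnivHomeo_factor ψD D.val.toRingHom Subtype.val_injective h
  haveI : _root_.IsReduced D := isReduced_of_injective D.val Subtype.val_injective
  have hDi : Function.Injective ψD := fun a b e => hinj (congrArg Subtype.val e)
  have hgen : Algebra.adjoin A ({⟨c, Algebra.self_mem_adjoin_singleton A c⟩} : Set D) = ⊤ := by
    refine Subalgebra.map_injective (f := D.val) Subtype.val_injective ?_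
    rw [AlgHom.map_adjoin, Algebra.map_top, Subalgebra.range_val, Set.image_singleton]
    rfl
  suffices (⟨c, Algebra.self_mem_adjoin_singleton A c⟩ : D) ∈ ψD.range by
    obtain ⟨a, ha⟩ := this
    exact ⟨a, congrArg Subtype.val ha⟩
  refine top_of_local ψD ((EtaLib.isUnivHomeo_Spec_iff ψD).mp hD).1 _ hgen fun P hP d => ?_
  haveI := hP.1.1
  obtain ⟨Q, hQ⟩ := ((EtaLib.isUnivHomeo_Spec_iff ψD).mp hD).2.1 ⟨P, hP.1.1⟩
  have hQ' : Q.asIdeal.comap ψD = P := congrArg PrimeSpectrum.asIdeal hQ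
  have hmul : ∀ z ∈ Q.asIdeal, ∃ t ∉ P, ψD t * z ∈ ψD.range := fun z hz => by
    obtain ⟨t, ht, htz⟩ :=
      exists_mul_mem_cond hA.1 ψD hDi (comap_injective_of_isUnivHomeo ψD hD) P hP Q hQ' hz
    exact ⟨t, ht, by simpa using htz 1⟩
  obtain ⟨e, he⟩ : ∃ e, e = ringExpChar (PrimeSpectrum.comap ψD Q).asIdeal.ResidueField := ⟨_, rfl⟩
  have key : ∀ (n : ℕ) (d : D), (∃ s a : A, s ∉ P ∧ ψD s * d ^ e ^ n - ψD a ∈ Q.asIdeal) →
      ∃ u ∉ P, ψD u * d ∈ ψD.range := by
    intro n
    induction n with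
    | zero =>
      rintro d ⟨s, a, hs, hsa⟩
      obtain ⟨t, ht, x, hx⟩ := hmul _ hsa
      refine ⟨t * s, fun e' => (hP.1.1.mem_or_mem e').elim ht hs, x + t * a, ?_⟩
      rw [map_add, hx, map_mul, map_mul, pow_zero, pow_one]; ring
    | succ n ih =>
      rintro d ⟨s, a, hs, hsa⟩
      rcases CharP.exists (PrimeSpectrum.comap ψD Q).asIdeal.ResidueField with ⟨p, hp⟩
      rcases CharP.char_is_prime_or_zero (PrimeSpectrum.comap ψD Q).asIdeal.ResidueField p with hpp | rfl
      · haveI : Fact p.Prime := ⟨hpp⟩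
        haveI := hp
        obtain rfl : e = p := he.trans (ringExpChar.eq (PrimeSpectrum.comap ψD Q).asIdeal.ResidueField p)
        rw [pow_succ', pow_mul] at hsa
        obtain ⟨u, hu, x, hx⟩ := ih _ ⟨s, a, hs, hsa⟩
        have hpQ : (e : D) * d ∈ Q.asIdeal := Ideal.mul_mem_right _ _ (by
          have h0 : ((e : A) : A) ∈ (PrimeSpectrum.comap ψD Q).asIdeal := by
            rw [← Ideal.algebraMap_residueField_eq_zero, map_natCast, CharP.cast_eq_zero]
          rw [← map_natCast ψD]; exact h0)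
        obtain ⟨t, ht, y, hy⟩ := hmul _ hpQ
        obtain ⟨b, ⟨hb1, hb2⟩, -⟩ := hA.2 e hpp (u ^ (e - 1) * t ^ e * x) (u * y) (hDi (by
          rw [map_mul, map_pow, map_mul, map_mul, map_pow, map_pow, map_pow, hx, map_natCast,
            map_mul, hy]
          obtain ⟨k, hk⟩ := Nat.exists_eq_add_of_le' hpp.pos
          rw [hk, Nat.add_sub_cancel]
          ring))
        refine ⟨u * t, fun e' => (hP.1.1.mem_or_mem e').elim hu ht, b, eq_of_pow_prime hpp ?_ ?_⟩
        · rw [← map_pow, ← hb1, map_mul, map_mul, map_pow, map_pow, hx, map_mul]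
          obtain ⟨k, hk⟩ := Nat.exists_eq_add_of_le' hpp.pos
          rw [hk, Nat.add_sub_cancel]
          ring
        · rw [← map_natCast ψD e, ← map_mul, ← hb2, map_mul, hy, map_mul, map_natCast]
          ring
      · haveI : CharZero (PrimeSpectrum.comap ψD Q).asIdeal.ResidueField := CharP.charP_to_charZero _
        have he1 : e = 1 := he.trans (ringExpChar.eq_one _)
        exact ih d ⟨s, a, hs, by rw [he1, one_pow] at hsa ⊢; exact hsa⟩
  obtain ⟨n, s, a, hs, hsa⟩ := exists_pow_step ψD hD Q d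
  exact key n d ⟨s, a, hQ' ▸ hs, by rw [he]; exact hsa⟩

/-- A seminormal ring has no nontrivial reduced universally homeomorphic extension without residue extensions. -/
theorem bijective_of_seminormal (hA : HTop.IsSeminormalRing A) [IsReduced C] (ψ : A →+* C)
    (h : FlatMor.IsUnivHomeo (Spec.map (CommRingCat.ofHom ψ)))
    (hres : ∀ Q : PrimeSpectrum C,
      Function.Surjective (Ideal.ResidueField.map (PrimeSpectrum.comap ψ Q).asIdeal Q.asIdeal ψ rfl)) :
    Function.Bijective ψ := by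
  haveI := isReduced_of_seminormal hA
  have hinj := injective_of_surjective_comap ψ ((EtaLib.isUnivHomeo_Spec_iff ψ).mp h).2.1
  refine ⟨hinj, fun c => ?_⟩
  letI := ψ.toAlgebra
  let D : Subalgebra A C := Algebra.adjoin A {c}
  let ψD : A →+* D := algebraMap A D
  have hD : FlatMor.IsUnivHomeo (Spec.map (CommRingCat.ofHom ψD)) :=
    isUnivHomeo_factor ψD D.val.toRingHom Subtype.val_injective h
  haveI : _root_.IsReduced D := isReduced_of_injective D.val Subtype.val_injective
  have hDi : Function.Injective ψD := fun a b e => hinj (congrArg Subtype.val e)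
  have hgen : Algebra.adjoin A ({⟨c, Algebra.self_mem_adjoin_singleton A c⟩} : Set D) = ⊤ := by
    refine Subalgebra.map_injective (f := D.val) Subtype.val_injective ?_
    rw [AlgHom.map_adjoin, Algebra.map_top, Subalgebra.range_val, Set.image_singleton]
    rfl
  suffices (⟨c, Algebra.self_mem_adjoin_singleton A c⟩ : D) ∈ ψD.range by
    obtain ⟨a, ha⟩ := this
    exact ⟨a, congrArg Subtype.val ha⟩
  refine top_of_local ψD ((EtaLib.isUnivHomeo_Spec_iff ψD).mp hD).1 _ hgen fun P hP d => ?_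
  haveI := hP.1.1
  obtain ⟨QC, hQC⟩ := ((EtaLib.isUnivHomeo_Spec_iff ψ).mp h).2.1 ⟨P, hP.1.1⟩
  have hP' : (PrimeSpectrum.comap ψ QC).asIdeal = P := congrArg PrimeSpectrum.asIdeal hQC
  obtain ⟨z, hz⟩ := hres QC (algebraMap C _ (d : C))
  obtain ⟨a', s', hs, rfl⟩ := IsFractionRing.div_surjective (A := A ⧸ (PrimeSpectrum.comap ψ QC).asIdeal) z
  obtain ⟨a, rfl⟩ := Ideal.Quotient.mk_surjective a'
  obtain ⟨s, rfl⟩ := Ideal.Quotient.mk_surjective s'
  have hs' : s ∉ (PrimeSpectrum.comap ψ QC).asIdeal := fun e =>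
    nonZeroDivisors.ne_zero hs (Ideal.Quotient.eq_zero_iff_mem.mpr e)
  have hne : algebraMap C QC.asIdeal.ResidueField (ψ s) ≠ 0 := fun e =>
    hs' (show ψ s ∈ QC.asIdeal from Ideal.algebraMap_residueField_eq_zero.mp e)
  have hmem : ψ s * (d : C) - ψ a ∈ QC.asIdeal := by
    refine Ideal.algebraMap_residueField_eq_zero.mp ?_
    have hz' : algebraMap C QC.asIdeal.ResidueField (d : C) =
        algebraMap C QC.asIdeal.ResidueField (ψ a) / algebraMap C QC.asIdeal.ResidueField (ψ s) := by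
      rw [← hz, map_div₀]
      exact congr_arg₂ (· / ·) (Ideal.ResidueField.map_algebraMap _ _ ψ rfl a)
        (Ideal.ResidueField.map_algebraMap _ _ ψ rfl s)
    rw [map_sub, map_mul, hz', mul_div_cancel₀ _ hne, sub_self]
  obtain ⟨t, ht, htz⟩ := exists_mul_mem_cond hA ψD hDi (comap_injective_of_isUnivHomeo ψD hD) P hP
    (PrimeSpectrum.comap D.val.toRingHom QC) hP' (z := ψD s * d - ψD a) hmem
  obtain ⟨x, hx⟩ := htz 1
  refine ⟨t * s, fun e => (hP.1.1.mem_or_mem e).elim ht (hP' ▸ hs'), x + t * a, ?_⟩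
  rw [map_add, hx, map_mul, map_mul]
  ring

end Groth.Agent.AWN
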