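import Groth.Agent.AWN.SchemeLocal
import Groth.Agent.FpqcDescent.ReducedSub
import Mathlib.AlgebraicGeometry.Morphisms.IsIso

/-!
Universal homeomorphisms onto seminormal and absolutely weakly normal schemes.
-/

set_option autoImplicit false
set_option backward.isDefEq.respectTransparency.types false

universe u

open CategoryTheory CategoryTheory.Limits AlgebraicGeometry

namespace Groth.Agent.AWN

variable {X Y Z : Scheme.{u}}

lemma isUnivHomeo_isPullback {P : Scheme.{u}} {f : X ⟶ Y} {g : Z ⟶ Y} {f' : P ⟶ Z} {g' : P ⟶ X}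
    (H : IsPullback g' f' f g) (hf : FlatMor.IsUnivHomeo f) : FlatMor.IsUnivHomeo f' := by
  obtain ⟨h1, h2, h3⟩ := (FlatBasics.isUnivHomeo_iff f).mp hf
  exact (FlatBasics.isUnivHomeo_iff f').mpr ⟨MorphismProperty.of_isPullback (P := @UniversallyClosed) H h1,
    MorphismProperty.of_isPullback (P := @UniversallyInjective) H h2,
    MorphismProperty.of_isPullback (P := @Surjective) H h3⟩

lemma isUnivHomeo_scheme_comp {f : X ⟶ Y} {g : Y ⟶ Z} (hf : FlatMor.IsUnivHomeo f) (hg : FlatMor.IsUnivHomeo g) :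
    FlatMor.IsUnivHomeo (f ≫ g) := by
  obtain ⟨_, _, _⟩ := (FlatBasics.isUnivHomeo_iff f).mp hf
  obtain ⟨_, _, _⟩ := (FlatBasics.isUnivHomeo_iff g).mp hg
  haveI : UniversallyInjective (f ≫ g) := MorphismProperty.comp_mem _ f g inferInstance inferInstance
  exact FlatBasics.isUnivHomeo_of

lemma isUnivHomeo_of_isIso (f : X ⟶ Y) [IsIso f] : FlatMor.IsUnivHomeo f :=
  FlatBasics.isUnivHomeo_of

lemma isUnivHomeo_of_comp {f : X ⟶ Y} {g : Y ⟶ Z} (hfg : FlatMor.IsUnivHomeo (f ≫ g)) (hg : FlatMor.IsUnivHomeo g) :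
    FlatMor.IsUnivHomeo f := by
  obtain ⟨_, _, _⟩ := (FlatBasics.isUnivHomeo_iff _).mp hfg
  haveI := FlatBasics.isAffineHom_of_isUnivHomeo hg
  haveI : UniversallyClosed f := UniversallyClosed.of_comp_of_isSeparated f g
  haveI := FlatBasics.universallyInjective_of_comp f g
  haveI := FlatBasics.surjective_of_comp_injective f g (FlatBasics.isHomeomorph_of_isUnivHomeo hg).injective
  exact FlatBasics.isUnivHomeo_of

lemma residueFieldMap_isIso_aux {A B : Scheme.{u}} (i : A ⟶ B) [IsOpenImmersion i] (a : A) :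
    IsIso (i.residueFieldMap a) := inferInstance

lemma residueFieldsIso_comp_iff_of_openImmersion (i : X ⟶ Y) [IsOpenImmersion i] (f : Y ⟶ Z) :
    HTop.ResidueFieldsIso (i ≫ f) ↔ ∀ x : X, IsIso (f.residueFieldMap (i x)) := by
  refine forall_congr' fun x => ?_
  rw [Scheme.residueFieldMap_comp]
  exact isIso_comp_right_iff _ _

lemma residueFieldsIso_morphismRestrict {f : X ⟶ Y} (hf : HTop.ResidueFieldsIso f) (U : Y.Opens) :
    HTop.ResidueFieldsIso (f ∣_ U) := fun x => by
  have h : HTop.ResidueFieldsIso ((f ∣_ U) ≫ U.ι) := by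
    rw [morphismRestrict_ι]
    exact (residueFieldsIso_comp_iff_of_openImmersion _ _).mpr fun x => hf _
  have h2 := h x
  rw [Scheme.residueFieldMap_comp] at h2
  haveI : IsIso (U.ι.residueFieldMap ((f ∣_ U) x)) := residueFieldMap_isIso_aux U.ι _
  exact @IsIso.of_isIso_comp_left _ _ _ _ _ _ _ this h2

lemma residueFieldsIso_comp {f : X ⟶ Y} {g : Y ⟶ Z} (hf : HTop.ResidueFieldsIso f) (hg : HTop.ResidueFieldsIso g) :
    HTop.ResidueFieldsIso (f ≫ g) := fun x => by
  rw [Scheme.residueFieldMap_comp]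
  exact @IsIso.comp_isIso _ _ _ _ _ _ _ (hg (f x)) (hf x)

lemma residueFieldsIso_of_isIso (f : X ⟶ Y) [IsIso f] : HTop.ResidueFieldsIso f := fun _ => inferInstance

variable (π : Y ⟶ X) (hπ : FlatMor.IsUnivHomeo π) (U : X.affineOpens)

/-- A universal homeomorphism over an affine open is the `Spec` of its map on sections. -/
noncomputable def arrowIso : Arrow.mk (π ∣_ (U : X.Opens)) ≅ Arrow.mk (Spec.map (π.app U)) :=
  haveI := FlatBasics.isAffineHom_of_isUnivHomeo hπ
  haveI : IsIso (π ⁻¹ᵁ (U : X.Opens)).toSpecΓ := by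
    rw [← (U.2.preimage π).isoSpec_hom]; infer_instance
  haveI : IsIso (U : X.Opens).toSpecΓ := by
    rw [← U.2.isoSpec_hom]; infer_instance
  Arrow.isoMk (asIso (π ⁻¹ᵁ (U : X.Opens)).toSpecΓ) (asIso (U : X.Opens).toSpecΓ)
    (Scheme.Opens.toSpecΓ_naturality π U)

include hπ in
lemma isUnivHomeo_app : FlatMor.IsUnivHomeo (Spec.map (CommRingCat.ofHom (π.app U).hom)) := by
  have h1 : FlatMor.IsUnivHomeo (π ∣_ (U : X.Opens)) :=
    isUnivHomeo_isPullback (isPullback_morphismRestrict π (U : X.Opens)).flip hπ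
  let e := arrowIso π hπ U
  haveI : IsIso e.inv.left := inferInstance
  have h2 : Spec.map (π.app U) = e.inv.left ≫ (π ∣_ (U : X.Opens)) ≫ e.hom.right := by
    rw [← Category.assoc]
    have hw : e.inv.left ≫ (π ∣_ (U : X.Opens)) = Spec.map (π.app U) ≫ e.inv.right := Arrow.w e.inv
    rw [hw, Category.assoc, ← Arrow.comp_right, e.inv_hom_id]
    simp
  show FlatMor.IsUnivHomeo (Spec.map (π.app U))
  rw [h2]
  exact isUnivHomeo_scheme_comp (isUnivHomeo_of_isIso _) (isUnivHomeo_scheme_comp h1 (isUnivHomeo_of_isIso _))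

include hπ in
lemma residueFieldsIso_app (hr : HTop.ResidueFieldsIso π) :
    HTop.ResidueFieldsIso (Spec.map (CommRingCat.ofHom (π.app U).hom)) := by
  let e := arrowIso π hπ U
  have h2 : Spec.map (π.app U) = e.inv.left ≫ (π ∣_ (U : X.Opens)) ≫ e.hom.right := by
    rw [← Category.assoc]
    have hw : e.inv.left ≫ (π ∣_ (U : X.Opens)) = Spec.map (π.app U) ≫ e.inv.right := Arrow.w e.inv
    rw [hw, Category.assoc, ← Arrow.comp_right, e.inv_hom_id]
    simp
  show HTop.ResidueFieldsIso (Spec.map (π.app U))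
  rw [h2]
  exact residueFieldsIso_comp (residueFieldsIso_of_isIso _)
    (residueFieldsIso_comp (residueFieldsIso_morphismRestrict hr _) (residueFieldsIso_of_isIso _))

include hπ in
lemma isIso_of_forall_bijective (h : ∀ U : X.affineOpens, Function.Bijective (π.app U).hom) : IsIso π := by
  refine (IsZariskiLocalAtTarget.iff_of_iSup_eq_top (P := MorphismProperty.isomorphisms Scheme)
    (fun U : X.affineOpens => (U : X.Opens)) (iSup_affineOpens_eq_top X)).mpr fun U => ?_
  refine (MorphismProperty.arrow_mk_iso_iff _ (arrowIso π hπ U)).mpr ?_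
  haveI : IsIso (π.app U) := (ConcreteCategory.isIso_iff_bijective _).mpr (h U)
  exact MorphismProperty.isomorphisms.infer_property _

/-- The reduction of a scheme. -/
noncomputable abbrev red (Y : Scheme.{u}) : Scheme.{u} := Y.nilradical.subscheme

/-- The closed immersion of the reduction. -/
noncomputable abbrev redι (Y : Scheme.{u}) : red Y ⟶ Y := Y.nilradical.subschemeι

instance isReduced_red (Y : Scheme.{u}) : AlgebraicGeometry.IsReduced (red Y) := by
  rw [red, ← Scheme.IdealSheafData.vanishingIdeal_top]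
  infer_instance

lemma surjective_redι (Y : Scheme.{u}) : Surjective (redι Y) :=
  ⟨fun y => by
    have := Scheme.IdealSheafData.range_subschemeι Y.nilradical
    rw [Scheme.support_nilradical] at this
    exact (Set.ext_iff.mp this y).mpr trivial⟩

lemma isUnivHomeo_redι (Y : Scheme.{u}) : FlatMor.IsUnivHomeo (redι Y) :=
  haveI := surjective_redι Y
  FlatBasics.isUnivHomeo_of

lemma residueFieldsIso_redι (Y : Scheme.{u}) : HTop.ResidueFieldsIso (redι Y) := fun y => by
  rw [ConcreteCategory.isIso_iff_bijective]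
  refine ⟨RingHom.injective _, fun z => ?_⟩
  obtain ⟨s, rfl⟩ := Scheme.residue_surjective _ _ z
  obtain ⟨t, rfl⟩ := (redι Y).stalkMap_surjective y s
  exact ⟨Y.residue _ t, congrArg (fun φ => φ.hom t) (Scheme.residue_residueFieldMap (redι Y) y)⟩

include hπ in
theorem isIso_of_isAWN (hX : HTop.IsAWN X) [AlgebraicGeometry.IsReduced Y] : IsIso π :=
  isIso_of_forall_bijective π hπ fun U =>
    bijective_of_awn (isAWN_iff.mp hX U) _ (isUnivHomeo_app π hπ U)

include hπ in
theorem isIso_of_isSeminormal (hX : HTop.IsSeminormal X) (hr : HTop.ResidueFieldsIso π)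
    [AlgebraicGeometry.IsReduced Y] : IsIso π :=
  isIso_of_forall_bijective π hπ fun U =>
    bijective_of_seminormal (isSeminormal_iff.mp hX U) _ (isUnivHomeo_app π hπ U)
      fun Q => ((EtaLib.residueFieldsIso_Spec_iff _).mp (residueFieldsIso_app π hπ U hr) Q).2

/-- Two morphisms out of a reduced scheme which agree after a universal homeomorphism agree. -/
theorem hom_ext_of_reduced {T : Scheme.{u}} [AlgebraicGeometry.IsReduced T] {π : Y ⟶ X}
    (hπ : FlatMor.IsUnivHomeo π) {a b : T ⟶ Y} (h : a ≫ π = b ≫ π) : a = b := by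
  haveI := FlatBasics.isAffineHom_of_isUnivHomeo hπ
  have hinj := ((FlatBasics.isUnivHomeo_iff π).mp hπ).2.1
  let j := pullback.diagonal π
  let k : T ⟶ pullback π π := pullback.lift a b h
  haveI : Surjective j := (UniversallyInjective.iff_diagonal π).mp hinj
  haveI : IsClosedImmersion j := inferInstance
  haveI : Surjective (pullback.fst k j) := MorphismProperty.pullback_fst _ _ ‹_›
  haveI : IsIso (pullback.fst k j) := isIso_of_isClosedImmersion_of_surjective _
  have hk : k = (inv (pullback.fst k j) ≫ pullback.snd k j) ≫ j := by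
    rw [Category.assoc, ← pullback.condition, IsIso.inv_hom_id_assoc]
  have ha := hk =≫ pullback.fst π π
  have hb := hk =≫ pullback.snd π π
  rw [pullback.lift_fst, Category.assoc, pullback.diagonal_fst, Category.comp_id] at ha
  rw [pullback.lift_snd, Category.assoc, pullback.diagonal_snd, Category.comp_id] at hb
  exact ha.trans hb.symm

/-- The identity of a scheme on which reduced universal homeomorphisms are trivial is initial. -/
theorem existsUnique_section [AlgebraicGeometry.IsReduced X] (π : Y ⟶ X) (hπ : FlatMor.IsUnivHomeo π)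
    (h : IsIso (redι Y ≫ π)) : ∃! s : X ⟶ Y, s ≫ π = 𝟙 X := by
  refine ⟨inv (redι Y ≫ π) ≫ redι Y, by simp, fun s hs => ?_⟩
  exact hom_ext_of_reduced hπ (by rw [hs]; simp)

theorem isAWNormalization_id (hX : HTop.IsAWN X) : HTop.IsAWNormalization (𝟙 X) := by
  haveI := isReduced_of_isSeminormal (X := X) fun x => let ⟨U, hx, hU⟩ := hX x; ⟨U, hx, hU.1⟩
  exact ⟨isUnivHomeo_of_isIso _, fun Y π hπ => existsUnique_section π hπ
    (isIso_of_isAWN _ (isUnivHomeo_scheme_comp (isUnivHomeo_redι Y) hπ) hX)⟩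

theorem isSeminormalization_id (hX : HTop.IsSeminormal X) : HTop.IsSeminormalization (𝟙 X) := by
  haveI := isReduced_of_isSeminormal hX
  exact ⟨⟨isUnivHomeo_of_isIso _, residueFieldsIso_of_isIso _⟩, fun Y π hπ hr => existsUnique_section π hπ
    (isIso_of_isSeminormal _ (isUnivHomeo_scheme_comp (isUnivHomeo_redι Y) hπ) hX
      (residueFieldsIso_comp (residueFieldsIso_redι Y) hr))⟩

lemma isReduced_of_initial {X' : Scheme.{u}} (ν : X' ⟶ X) (h : ∃ s : X' ⟶ red X', s ≫ redι X' ≫ ν = ν)
    (huniq : ∀ s : X' ⟶ X', s ≫ ν = ν → s = 𝟙 X') : AlgebraicGeometry.IsReduced X' := by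
  obtain ⟨s, hs⟩ := h
  have h1 : s ≫ redι X' = 𝟙 X' := huniq _ (by rw [Category.assoc, hs])
  haveI : IsSplitEpi (redι X') := ⟨⟨⟨s, h1⟩⟩⟩
  haveI : IsIso (redι X') := isIso_of_mono_of_isSplitEpi _
  exact isReduced_of_isOpenImmersion (inv (redι X'))

theorem isReduced_of_isAWNormalization {X' : Scheme.{u}} (ν : X' ⟶ X) (hν : HTop.IsAWNormalization ν) :
    AlgebraicGeometry.IsReduced X' := by
  obtain ⟨s, hs, -⟩ := hν.2 _ _ (isUnivHomeo_scheme_comp (isUnivHomeo_redι X') hν.1)
  obtain ⟨s₀, -, hu⟩ := hν.2 X' ν hν.1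
  exact isReduced_of_initial ν ⟨s, hs⟩ fun t ht => (hu t ht).trans (hu _ (Category.id_comp ν)).symm

theorem isReduced_of_isSeminormalization {X' : Scheme.{u}} (ν : X' ⟶ X) (hν : HTop.IsSeminormalization ν) :
    AlgebraicGeometry.IsReduced X' := by
  obtain ⟨s, hs, -⟩ := hν.2 _ _ (isUnivHomeo_scheme_comp (isUnivHomeo_redι X') hν.1.1)
    (residueFieldsIso_comp (residueFieldsIso_redι X') hν.1.2)
  obtain ⟨s₀, -, hu⟩ := hν.2 X' ν hν.1.1 hν.1.2
  exact isReduced_of_initial ν ⟨s, hs⟩ fun t ht => (hu t ht).trans (hu _ (Category.id_comp ν)).symm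

end Groth.Agent.AWN
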