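import Groth.Agent.AWN.Local
import Mathlib.AlgebraicGeometry.Properties

/-!
Seminormal and absolutely weakly normal schemes.
-/

set_option autoImplicit false

universe u

open CategoryTheory AlgebraicGeometry

namespace Groth.Agent.AWN

variable {X : Scheme.{u}}

lemma equiv_basicOpen (U : X.affineOpens) (f : Γ(X, U)) :
    Nonempty (Localization.Away f ≃+* Γ(X, X.affineBasicOpen f)) := by
  haveI := U.2.isLocalization_basicOpen f
  exact ⟨(IsLocalization.algEquiv (Submonoid.powers f) (Localization.Away f) Γ(X, X.basicOpen f)).toRingEquiv⟩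

theorem forall_affineOpens_of_local (P : ∀ (R : Type u) [CommRing R], Prop)
    (hequiv : ∀ {R S : Type u} [CommRing R] [CommRing S], (R ≃+* S) → P R → P S)
    (haway : ∀ {R : Type u} [CommRing R], P R → ∀ f : R, P (Localization.Away f))
    (hspan : ∀ {R : Type u} [CommRing R] {s : Set R}, Ideal.span s = ⊤ → (∀ f ∈ s, P (Localization.Away f)) → P R)
    (h : ∀ x : X, ∃ U : X.affineOpens, x ∈ (U : X.Opens) ∧ P Γ(X, U)) (V : X.affineOpens) : P Γ(X, V) := by
  choose U hxU hU using h
  refine of_affine_open_cover (P := fun V : X.affineOpens => P Γ(X, V)) U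
    (top_le_iff.mp fun x _ => TopologicalSpace.Opens.mem_iSup.mpr ⟨x, hxU x⟩) V (fun W f hW => ?_) (fun W s hs hW => ?_) hU
  · obtain ⟨e⟩ := equiv_basicOpen W f
    exact hequiv e (haway hW f)
  · refine hspan hs fun f hf => ?_
    obtain ⟨e⟩ := equiv_basicOpen W f
    exact hequiv e.symm (hW ⟨f, hf⟩)

theorem isSeminormal_iff : HTop.IsSeminormal X ↔ ∀ U : X.affineOpens, HTop.IsSeminormalRing Γ(X, U) :=
  ⟨forall_affineOpens_of_local (fun R i => @HTop.IsSeminormalRing R i) (fun e h => isSeminormalRing_of_equiv e h)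
      (fun h f => isSeminormalRing_away h f) (fun hs h => isSeminormalRing_of_span hs h),
    fun h x => by
      obtain ⟨_, ⟨U, hU, rfl⟩, hxU, -⟩ := X.isBasis_affineOpens.exists_subset_of_mem_open (Set.mem_univ x) isOpen_univ
      exact ⟨⟨U, hU⟩, hxU, h _⟩⟩

theorem isAWN_iff : HTop.IsAWN X ↔ ∀ U : X.affineOpens, HTop.IsAWNRing Γ(X, U) :=
  ⟨forall_affineOpens_of_local (fun R i => @HTop.IsAWNRing R i) (fun e h => isAWNRing_of_equiv e h)
      (fun h f => isAWNRing_away h f) (fun hs h => isAWNRing_of_span hs h),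
    fun h x => by
      obtain ⟨_, ⟨U, hU, rfl⟩, hxU, -⟩ := X.isBasis_affineOpens.exists_subset_of_mem_open (Set.mem_univ x) isOpen_univ
      exact ⟨⟨U, hU⟩, hxU, h _⟩⟩

theorem isReduced_of_isSeminormal (h : HTop.IsSeminormal X) : AlgebraicGeometry.IsReduced X := by
  haveI : ∀ x : X, _root_.IsReduced (X.presheaf.stalk x) := fun x => by
    obtain ⟨U, hxU, hU⟩ := h x
    haveI := isReduced_of_seminormal hU
    letI : Algebra Γ(X, U) (X.presheaf.stalk x) := TopCat.Presheaf.algebra_section_stalk X.presheaf ⟨x, hxU⟩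
    haveI : IsLocalization.AtPrime (X.presheaf.stalk x) (U.2.primeIdealOf ⟨x, hxU⟩).asIdeal :=
      U.2.isLocalization_stalk ⟨x, hxU⟩
    exact isReduced_localizationPreserves (U.2.primeIdealOf ⟨x, hxU⟩).asIdeal.primeCompl _ inferInstance
  exact isReduced_of_isReduced_stalk X

end Groth.Agent.AWN
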