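import Groth.Agent.AWN.Scheme
import Groth.Prelude.Def_Pi1
import Mathlib.AlgebraicGeometry.Morphisms.Preimmersion
import Mathlib.RingTheory.Spectrum.Prime.RingHom

/-!
Lifting from seminormal schemes; normal schemes are seminormal; finite models of maps out of
universal homeomorphisms.
-/

set_option autoImplicit false
set_option backward.isDefEq.respectTransparency.types false

universe u

open CategoryTheory CategoryTheory.Limits AlgebraicGeometry

namespace Groth.Agent.AWN

section Ring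

variable {A : Type u} [CommRing A]

theorem isSeminormalRing_of_localization
    (h : ∀ (P : Ideal A) [P.IsMaximal], HTop.IsSeminormalRing (Localization.AtPrime P)) :
    HTop.IsSeminormalRing A := by
  haveI : _root_.IsReduced A := ⟨fun a ha => eq_zero_of_localization a fun J hJ => by
    haveI := isReduced_of_seminormal (h J)
    exact (ha.map _).eq_zero⟩
  intro x y hxy
  obtain ⟨J, hJ⟩ : ∃ J : Ideal A, ∀ r, r ∈ J ↔ ∃ c, c ^ 2 = r ^ 2 * x ∧ c ^ 3 = r ^ 3 * y :=
    ⟨{ carrier := {r | ∃ c, c ^ 2 = r ^ 2 * x ∧ c ^ 3 = r ^ 3 * y}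
       add_mem' := fun {r r'} ⟨c, h2, h3⟩ ⟨c', h2', h3'⟩ => by
         refine ⟨c + c', eq_of_residue fun P => ?_, eq_of_residue fun P => ?_⟩
         all_goals
           obtain ⟨t, ht2, ht3⟩ := exists_residue_root_sq hxy P
           simp only [map_pow, map_mul, map_add, eq_mul_root h2 h3 _ ht2 ht3, eq_mul_root h2' h3' _ ht2 ht3,
             ← ht2, ← ht3]
           ring
       zero_mem' := ⟨0, by simp⟩
       smul_mem' := fun a r ⟨c, h2, h3⟩ => ⟨a * c, by rw [mul_pow, h2, smul_eq_mul]; ring,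
         by rw [mul_pow, h3, smul_eq_mul]; ring⟩ }, fun r => Iff.rfl⟩
  suffices h1 : (1 : A) ∈ J by
    obtain ⟨c, h2, h3⟩ := (hJ 1).mp h1
    rw [one_pow, one_mul] at h2 h3
    exact ⟨c, ⟨h2.symm, h3.symm⟩, fun b hb => eq_of_sq_cube (hb.1.symm.trans h2.symm) (hb.2.symm.trans h3.symm)⟩
  refine (Ideal.eq_top_iff_one _).mp (by_contra fun hne => ?_)
  obtain ⟨P, hP, hle⟩ := Ideal.exists_le_maximal J hne
  obtain ⟨d, ⟨hd2, hd3⟩, -⟩ := h P (algebraMap A _ x) (algebraMap A _ y) (by rw [← map_pow, hxy, map_pow])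
  obtain ⟨⟨a, s⟩, ha⟩ := IsLocalization.surj P.primeCompl d
  have e2 : algebraMap A (Localization.AtPrime P) (a ^ 2) = algebraMap A _ ((s : A) ^ 2 * x) := by
    rw [map_pow, ← ha, mul_pow, ← hd2, map_mul, map_pow]; ring
  have e3 : algebraMap A (Localization.AtPrime P) (a ^ 3) = algebraMap A _ ((s : A) ^ 3 * y) := by
    rw [map_pow, ← ha, mul_pow, ← hd3, map_mul, map_pow]; ring
  obtain ⟨m₁, hm₁⟩ := IsLocalization.exists_of_eq (M := P.primeCompl) e2
  obtain ⟨m₂, hm₂⟩ := IsLocalization.exists_of_eq (M := P.primeCompl) e3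
  have hmem : (m₁ : A) * m₂ * s ∈ J := (hJ _).mpr ⟨(m₁ : A) * m₂ * a, by
      calc _ = (m₁ : A) * m₂ ^ 2 * (m₁ * a ^ 2) := by ring
        _ = (m₁ : A) * m₂ ^ 2 * (m₁ * ((s : A) ^ 2 * x)) := congrArg _ hm₁
        _ = _ := by ring, by
      calc _ = (m₁ : A) ^ 3 * m₂ ^ 2 * (m₂ * a ^ 3) := by ring
        _ = (m₁ : A) ^ 3 * m₂ ^ 2 * (m₂ * ((s : A) ^ 3 * y)) := congrArg _ hm₂
        _ = _ := by ring⟩
  exact (P.primeCompl.mul_mem (P.primeCompl.mul_mem m₁.2 m₂.2) s.2) (hle hmem)

theorem isSeminormalRing_of_isIntegrallyClosed (A : Type u) [CommRing A] [IsDomain A] [IsIntegrallyClosed A] :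
    HTop.IsSeminormalRing A := by
  intro x y hxy
  obtain ⟨t, ht2, ht3⟩ := exists_root_seminormal hxy (FractionRing A) (algebraMap A (FractionRing A))
  obtain ⟨a, rfl⟩ := IsIntegrallyClosed.algebraMap_eq_of_integral (R := A) (x := t)
    (IsIntegral.of_pow two_pos (by rw [ht2]; exact isIntegral_algebraMap))
  have hi := IsFractionRing.injective A (FractionRing A)
  have h2 : x = a ^ 2 := hi (by rw [map_pow, ht2])
  have h3 : y = a ^ 3 := hi (by rw [map_pow, ht3])
  exact ⟨a, ⟨h2, h3⟩, fun b hb => eq_of_sq_cube (hb.1.symm.trans h2) (hb.2.symm.trans h3)⟩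

end Ring

variable {X Y Z T : Scheme.{u}}

theorem isSeminormal_of_isNormalScheme (h : Pi1.IsNormalScheme X) : HTop.IsSeminormal X := by
  refine isSeminormal_iff.mpr fun U => isSeminormalRing_of_localization fun P hP => ?_
  let x := U.2.fromSpec ⟨P, hP.isPrime⟩
  have hx : x ∈ (U : X.Opens) := by
    rw [← SetLike.mem_coe, ← U.2.range_fromSpec]; exact ⟨_, rfl⟩
  have hP' : (U.2.primeIdealOf ⟨x, hx⟩).asIdeal = P := by
    refine congrArg PrimeSpectrum.asIdeal (U.2.fromSpec.isOpenEmbedding.injective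
      (a₂ := (⟨P, hP.isPrime⟩ : PrimeSpectrum Γ(X, U))) ?_)
    exact U.2.fromSpec_primeIdealOf ⟨x, hx⟩
  letI : Algebra Γ(X, U) (X.presheaf.stalk x) := TopCat.Presheaf.algebra_section_stalk X.presheaf ⟨x, hx⟩
  haveI : IsLocalization.AtPrime (X.presheaf.stalk x) P := by
    have := U.2.isLocalization_stalk ⟨x, hx⟩
    simp only [hP'] at this
    exact this
  obtain ⟨h1, h2⟩ := h x
  exact isSeminormalRing_of_equiv (IsLocalization.algEquiv P.primeCompl (X.presheaf.stalk x)
    (Localization.AtPrime P)).toRingEquiv (isSeminormalRing_of_isIntegrallyClosed _)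

theorem isSeminormal_opens (h : HTop.IsSeminormal X) (V : X.Opens) : HTop.IsSeminormal V.toScheme :=
  isSeminormal_iff.mpr fun W => isSeminormalRing_of_equiv (V.ι.appIso W.1).commRingCatIsoToRingEquiv
    (isSeminormal_iff.mp h ⟨V.ι ''ᵁ W.1, W.2.image_of_isOpenImmersion V.ι⟩)

lemma residueFieldsIso_of_comp (a : X ⟶ Y) (g : Y ⟶ Z) (h : HTop.ResidueFieldsIso (a ≫ g)) [Surjective a] :
    HTop.ResidueFieldsIso g := fun y => by
  obtain ⟨x, rfl⟩ := a.surjective y
  have hx := h x
  rw [Scheme.residueFieldMap_comp] at hx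
  have hsurj := ((ConcreteCategory.isIso_iff_bijective _).mp hx).2
  refine (ConcreteCategory.isIso_iff_bijective _).mpr ⟨RingHom.injective _, fun z => ?_⟩
  obtain ⟨w, hw⟩ := hsurj (a.residueFieldMap x z)
  exact ⟨w, (a.residueFieldMap x).hom.injective hw⟩

lemma residueFieldsIso_isPullback {P : Scheme.{u}} {f : X ⟶ Y} {g : Z ⟶ Y} {f' : P ⟶ Z} {g' : P ⟶ X}
    (H : IsPullback g' f' f g) (hf : FlatMor.IsUnivHomeo f) (hr : HTop.ResidueFieldsIso f) :
    HTop.ResidueFieldsIso f' := fun p => by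
  have hw : f (g' p) = g (f' p) := congrArg (fun k : P ⟶ Y => k p) H.w
  haveI := hr (g' p)
  let e : Y.residueField (g (f' p)) ⟶ Y.residueField (f (g' p)) := (Y.residueFieldCongr hw.symm).hom
  let a : X.residueField (g' p) ⟶ Z.residueField (f' p) :=
    inv (f.residueFieldMap (g' p)) ≫ (Y.residueFieldCongr hw).hom ≫ g.residueFieldMap (f' p)
  let s₁ : Spec (Z.residueField (f' p)) ⟶ X := Spec.map a ≫ X.fromSpecResidueField (g' p)
  have hs : s₁ ≫ f = Z.fromSpecResidueField (f' p) ≫ g := by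
    rw [Category.assoc, ← Scheme.Hom.SpecMap_residueFieldMap_fromSpecResidueField, ← Spec.map_comp_assoc,
      ← Scheme.Hom.SpecMap_residueFieldMap_fromSpecResidueField, IsIso.hom_inv_id_assoc, Spec.map_comp,
      Category.assoc]
    congr 1
    exact Y.residueFieldCongr_fromSpecResidueField hw
  let s : Spec (Z.residueField (f' p)) ⟶ P := H.lift s₁ (Z.fromSpecResidueField (f' p)) hs
  obtain ⟨⟨q, φ⟩, hqφ⟩ := (P.SpecToEquivOfField (Z.residueField (f' p))).symm.surjective s
  have hq : Spec.map φ ≫ P.fromSpecResidueField q = s := hqφ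
  have hs' : s ≫ f' = Z.fromSpecResidueField (f' p) := H.lift_snd _ _ _
  rw [← hq, Category.assoc, ← Scheme.Hom.SpecMap_residueFieldMap_fromSpecResidueField, ← Spec.map_comp_assoc] at hs'
  obtain rfl : q = p := by
    refine ((FlatBasics.isUnivHomeo_iff _).mp (isUnivHomeo_isPullback H hf)).2.1 |> fun h => ?_
    haveI := h
    refine f'.injective ?_
    have := congrArg (fun k : Spec (Z.residueField (f' p)) ⟶ Z => k (IsLocalRing.closedPoint _)) hs'
    simpa using this
  have hid : Spec.map (f'.residueFieldMap q ≫ φ) = 𝟙 _ := by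
    rw [← cancel_mono (Z.fromSpecResidueField (f' q)), Category.id_comp, hs']
  have hid' : f'.residueFieldMap q ≫ φ = 𝟙 _ := Spec.map_eq_id.mp hid
  refine (ConcreteCategory.isIso_iff_bijective _).mpr ⟨RingHom.injective _, fun z => ⟨φ z, φ.hom.injective ?_⟩⟩
  exact RingHom.congr_fun (congrArg CommRingCat.Hom.hom hid') (φ z)

/-- Maps out of seminormal schemes lift uniquely along universal homeomorphisms with trivial residue extensions. -/
theorem existsUnique_lift_of_seminormal (hT : HTop.IsSeminormal T) {π : Y ⟶ X} (hπ : FlatMor.IsUnivHomeo π)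
    (hr : HTop.ResidueFieldsIso π) (g : T ⟶ X) : ∃! h : T ⟶ Y, h ≫ π = g := by
  haveI := isReduced_of_isSeminormal hT
  have H := IsPullback.of_hasPullback π g
  haveI : IsIso (redι (pullback π g) ≫ pullback.snd π g) :=
    isIso_of_isSeminormal _ (isUnivHomeo_scheme_comp (isUnivHomeo_redι _) (isUnivHomeo_isPullback H hπ)) hT
      (residueFieldsIso_comp (residueFieldsIso_redι _) (residueFieldsIso_isPullback H hπ hr))
  have h0 : inv (redι (pullback π g) ≫ pullback.snd π g) ≫ redι _ ≫ pullback.fst π g ≫ π = g := by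
    rw [pullback.condition, ← Category.assoc (redι _) (pullback.snd π g), IsIso.inv_hom_id_assoc]
  exact ⟨inv (redι (pullback π g) ≫ pullback.snd π g) ≫ redι _ ≫ pullback.fst π g, by simpa using h0,
    fun h hh => hom_ext_of_reduced hπ (hh.trans (by simpa using h0.symm))⟩

/-- A finite model: a map out of the source of a universal homeomorphism factors through the image. -/
theorem exists_finite_model {T' P : Scheme.{u}} [AlgebraicGeometry.IsReduced T'] [IsLocallyNoetherian T]
    (q : P ⟶ T) [IsSeparated q] [LocallyOfFiniteType q] (j : T' ⟶ P) {ν : T' ⟶ T} (hj : j ≫ q = ν)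
    (hν : FlatMor.IsUnivHomeo ν) :
    ∃ (T₁ : Scheme.{u}) (e : T₁ ⟶ P) (h : T' ⟶ T₁), h ≫ e = j ∧ IsFinite (e ≫ q) ∧ FlatMor.IsUnivHomeo (e ≫ q) ∧
      AlgebraicGeometry.IsReduced T₁ ∧ Surjective h := by
  obtain ⟨_, hνi, hνs⟩ := (FlatBasics.isUnivHomeo_iff ν).mp hν
  haveI := FlatBasics.isAffineHom_of_isUnivHomeo hν
  haveI : UniversallyClosed (j ≫ q) := by rw [hj]; assumption
  haveI : IsAffineHom (j ≫ q) := by rw [hj]; assumption
  haveI : UniversallyClosed j := UniversallyClosed.of_comp_of_isSeparated j q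
  haveI : IsAffineHom j := MorphismProperty.of_postcomp (W := @IsAffineHom) (W' := @IsSeparated) j q ‹_› ‹_›
  haveI : UniversallyClosed j.toImage :=
    haveI : UniversallyClosed (j.toImage ≫ j.imageι) := by rw [j.toImage_imageι]; assumption
    UniversallyClosed.of_comp_of_isSeparated j.toImage j.imageι
  haveI : Surjective j.toImage := ⟨Set.range_eq_univ.mp (by
    rw [← j.toImage.isClosedMap.isClosed_range.closure_eq]
    exact j.toImage.denseRange.closure_range)⟩
  obtain ⟨T₁, e, h, rfl, hsurj, he, hred⟩ : ∃ (T₁ : Scheme.{u}) (e : T₁ ⟶ P) (h : T' ⟶ T₁),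
      h ≫ e = j ∧ Surjective h ∧ IsClosedImmersion e ∧ AlgebraicGeometry.IsReduced T₁ := by
    refine ⟨j.image, j.imageι, j.toImage, j.toImage_imageι, inferInstance, inferInstance, ?_⟩
    have hred : AlgebraicGeometry.IsReduced j.image := by
      haveI : ∀ x : j.image, _root_.IsReduced (j.image.presheaf.stalk x) := fun x => by
        obtain ⟨_, ⟨U, hU, rfl⟩, hxU, -⟩ :=
          P.isBasis_affineOpens.exists_subset_of_mem_open (Set.mem_univ (j.imageι x)) isOpen_univ
        have hinj := j.toImage_app_injective ⟨U, hU⟩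
        haveI : _root_.IsReduced Γ(j.image, j.imageι ⁻¹ᵁ U) :=
          isReduced_of_injective (j.toImage.app _).hom hinj
        letI : Algebra Γ(j.image, j.imageι ⁻¹ᵁ U) (j.image.presheaf.stalk x) :=
          TopCat.Presheaf.algebra_section_stalk j.image.presheaf ⟨x, hxU⟩
        haveI : IsLocalization.AtPrime (j.image.presheaf.stalk x)
            ((hU.preimage j.imageι).primeIdealOf ⟨x, hxU⟩).asIdeal :=
          (hU.preimage j.imageι).isLocalization_stalk ⟨x, hxU⟩
        exact isReduced_localizationPreserves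
          ((hU.preimage j.imageι).primeIdealOf ⟨x, hxU⟩).asIdeal.primeCompl _ inferInstance
      exact isReduced_of_isReduced_stalk _
    exact hred
  haveI := he
  haveI := hsurj
  haveI : UniversallyClosed (h ≫ e ≫ q) := by rw [← Category.assoc, hj]; assumption
  haveI : UniversallyInjective (h ≫ e ≫ q) := by rw [← Category.assoc, hj]; assumption
  haveI : Surjective (h ≫ e ≫ q) := by rw [← Category.assoc, hj]; assumption
  haveI : UniversallyClosed (e ≫ q) := UniversallyClosed.of_comp_surjective h _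
  haveI : UniversallyInjective (e ≫ q) := FlatBasics.universallyInjective_of_comp_surjective h _
  haveI : Surjective (e ≫ q) := Surjective.of_comp h _
  have hu : FlatMor.IsUnivHomeo (e ≫ q) := FlatBasics.isUnivHomeo_of
  haveI := FlatBasics.isIntegralHom_of_isUnivHomeo hu
  exact ⟨T₁, e, h, rfl, (IsFinite.iff_isIntegralHom_and_locallyOfFiniteType _).mpr ⟨inferInstance, inferInstance⟩,
    hu, hred, hsurj⟩

end Groth.Agent.AWN
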